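import Cfsg.Agent.Lib.Qd.Elementary

/-!
# Abelian two-groups on which the elements of order three of `SL₂(2ⁿ)` act without fixed points

Such a group is elementary abelian and is a sum of natural modules (Higman).
-/

set_option autoImplicit false
set_option linter.style.haveILetI false
set_option linter.unusedSectionVars false

namespace CfsgLib.SLTwoFpf

open CfsgLib.Qd (up lo ext2 mul00 mul01 mul10 mul11)

variable {K : Type*} [Field K] [CharP K 2]

local notation "SL₂" => Matrix.SpecialLinearGroup (Fin 2) K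

theorem two_K : (2 : K) = 0 := by exact_mod_cast CharP.cast_eq_zero K 2

theorem neg_K (a : K) : -a = a := by linear_combination (-a) * two_K (K := K)

/-- the Weyl element -/
def wel : SL₂ := ⟨!![0, 1; 1, 0], by simp [Matrix.det_fin_two, neg_K]⟩

/-- the torus -/
def tor (u : Kˣ) : SL₂ := ⟨!![(u : K), 0; 0, (↑u⁻¹ : K)], by simp [Matrix.det_fin_two]⟩

theorem wel_coe : (wel (K := K)).1 = !![0, 1; 1, 0] := rfl

theorem tor_coe (u : Kˣ) : (tor u).1 = !![(u : K), 0; 0, (↑u⁻¹ : K)] := rfl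

theorem wel_mul : (wel : SL₂) * wel = 1 := by
  apply ext2 <;> simp [mul00, mul01, mul10, mul11, wel_coe]

theorem up_mul_self (a : K) : up a * up a = (1 : SL₂) := by
  rw [CfsgLib.Qd.up_mul, show a + a = 0 by linear_combination a * two_K (K := K), CfsgLib.Qd.up_zero]

theorem wel_up_wel (c : K) : (wel : SL₂) * up c * wel = lo c := by
  apply ext2 <;> simp [mul00, mul01, mul10, mul11, wel_coe]

theorem tor_mul (u v : Kˣ) : tor (u * v) = tor u * tor v := by
  apply ext2 <;> simp [mul00, mul01, mul10, mul11, tor_coe, mul_comm]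

theorem tor_one : tor (1 : Kˣ) = 1 := by
  apply ext2 <;> simp [tor_coe]

theorem up_tor (u : Kˣ) (a : K) :
    up a * tor u = tor u * up ((↑u⁻¹ : K) * (↑u⁻¹ : K) * a) := by
  apply ext2 <;> simp [mul00, mul01, mul10, mul11, tor_coe] <;> field_simp <;> ring

theorem up_lo_up (u : Kˣ) : up (↑u⁻¹ : K) * lo (u : K) * up (↑u⁻¹ : K) = (wel : SL₂) * tor u := by
  apply ext2 <;> simp [mul00, mul01, mul10, mul11, tor_coe, wel_coe] <;> field_simp <;>
    linear_combination two_K (K := K)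

theorem order_three (a : K) (ha : a ≠ 0) :
    orderOf (up a * lo a⁻¹ : SL₂) = 3 ∧
      (up a * lo a⁻¹ : SL₂) * (up a * lo a⁻¹) = lo a⁻¹ * up a := by
  have h2 := two_K (K := K)
  have hsq : (up a * lo a⁻¹ : SL₂) * (up a * lo a⁻¹) = lo a⁻¹ * up a := by
    apply ext2 <;> simp [mul00, mul01, mul10, mul11] <;> field_simp <;>
      first | exact Or.inl (by linear_combination h2) | exact Or.inr (by linear_combination h2) | linear_combination (2 : K) * h2 | linear_combination h2 | linear_combination a * h2 |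
        linear_combination -h2 | linear_combination -a * h2
  refine ⟨?_, hsq⟩
  haveI : Fact (Nat.Prime 3) := ⟨Nat.prime_three⟩
  refine orderOf_eq_prime ?_ ?_
  · rw [pow_succ, pow_two, hsq, mul_assoc, ← mul_assoc (up a) (up a), up_mul_self, one_mul,
      CfsgLib.Qd.lo_mul, show a⁻¹ + a⁻¹ = 0 by linear_combination a⁻¹ * h2, CfsgLib.Qd.lo_zero]
  · intro e
    have := congrArg (fun g : SL₂ => g.1 0 1) e
    simp [mul01] at this
    exact ha this

theorem eq_top_of_up_wel (H : Subgroup SL₂) (hu : ∀ a, up a ∈ H) (hw : wel ∈ H) : H = ⊤ := by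
  have hl : ∀ c, lo c ∈ H := fun c => by
    rw [← wel_up_wel]; exact H.mul_mem (H.mul_mem hw (hu c)) hw
  have key : ∀ g : SL₂, g.1 1 0 ≠ 0 → g ∈ H := by
    intro g hg
    have e : g = up ((g.1 0 0 - 1) / g.1 1 0) * lo (g.1 1 0) * up ((g.1 1 1 - 1) / g.1 1 0) := by
      have hd := CfsgLib.Qd.det2 g
      apply ext2 <;> simp [mul00, mul01, mul10, mul11] <;> field_simp
      · ring
      · linear_combination -hd
      · ring
    rw [e]
    exact H.mul_mem (H.mul_mem (hu _) (hl _)) (hu _)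
  refine Subgroup.eq_top_iff' H |>.2 fun g => ?_
  by_cases hg : g.1 1 0 = 0
  · have h1 : lo 1 * g ∈ H := key _ (by
      simp only [mul10, CfsgLib.Qd.lo_coe, Matrix.of_apply, Matrix.cons_val', Matrix.cons_val_zero,
        Matrix.cons_val_one, Matrix.empty_val', Matrix.cons_val_fin_one, hg, one_mul, mul_zero, add_zero]
      intro h0
      have hd := CfsgLib.Qd.det2 g
      rw [h0, hg] at hd
      simp at hd)
    simpa using H.mul_mem (H.inv_mem (hl 1)) h1
  · exact key g hg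

variable {V : Type*} [AddCommGroup V] (ρ : Matrix.SpecialLinearGroup (Fin 2) K →* AddMonoid.End V)

theorem rho_mul (g h : SL₂) (v : V) : ρ (g * h) v = ρ g (ρ h v) := by
  rw [map_mul]; rfl

theorem rho_one (v : V) : ρ 1 v = v := by rw [map_one]; rfl

theorem rho_inv (g : SL₂) (v : V) : ρ g⁻¹ (ρ g v) = v := by
  rw [← rho_mul, inv_mul_cancel, rho_one]

theorem rho_injective (g : SL₂) : Function.Injective (ρ g) := fun x y h => by
  rw [← rho_inv ρ g x, h, rho_inv]

/-- the fixed points of the upper unipotent group among the involutions -/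
def fixU : AddSubgroup V where
  carrier := {v | v + v = 0 ∧ ∀ a : K, ρ (up a) v = v}
  add_mem' {x y} hx hy := ⟨by rw [add_add_add_comm, hx.1, hy.1, add_zero],
    fun a => by rw [map_add, hx.2, hy.2]⟩
  zero_mem' := ⟨add_zero 0, fun a => map_zero _⟩
  neg_mem' {x} hx := ⟨by rw [← neg_add, hx.1, neg_zero], fun a => by rw [map_neg, hx.2]⟩

theorem mem_fixU {v : V} : v ∈ fixU ρ ↔ v + v = 0 ∧ ∀ a : K, ρ (up a) v = v := Iff.rfl

theorem tor_mem {v : V} (hv : v ∈ fixU ρ) (u : Kˣ) : ρ (tor u) v ∈ fixU ρ :=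
  ⟨by rw [← map_add, hv.1, map_zero], fun a => by rw [← rho_mul, up_tor, rho_mul, hv.2]⟩

variable [DecidableEq K]

/-- scalar multiplication by `b` -/
def sc (b : K) (v : V) : V := if hb : b = 0 then 0 else ρ (tor (Units.mk0 b hb)) v

theorem sc_zero (v : V) : sc ρ 0 v = 0 := dif_pos rfl

theorem sc_ne {b : K} (hb : b ≠ 0) (v : V) : sc ρ b v = ρ (tor (Units.mk0 b hb)) v := dif_neg hb

theorem sc_mem {v : V} (hv : v ∈ fixU ρ) (b : K) : sc ρ b v ∈ fixU ρ := by
  unfold sc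
  split_ifs
  · exact zero_mem _
  · exact tor_mem ρ hv _

theorem sc_one (v : V) : sc ρ 1 v = v := by
  rw [sc_ne ρ one_ne_zero, Units.mk0_one, tor_one, rho_one]

theorem sc_mul (b c : K) (v : V) : sc ρ (b * c) v = sc ρ b (sc ρ c v) := by
  rcases eq_or_ne b 0 with rfl | hb
  · rw [zero_mul, sc_zero, sc_zero]
  rcases eq_or_ne c 0 with rfl | hc
  · rw [mul_zero, sc_zero, sc_ne ρ hb, map_zero]
  rw [sc_ne ρ hb, sc_ne ρ hc, sc_ne ρ (mul_ne_zero hb hc), ← rho_mul, ← tor_mul]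
  congr 3
  exact Units.ext rfl

theorem sc_add_right (b : K) (v w : V) : sc ρ b (v + w) = sc ρ b v + sc ρ b w := by
  unfold sc; split_ifs <;> simp

variable (h3 : ∀ g : Matrix.SpecialLinearGroup (Fin 2) K, orderOf g = 3 → ∀ v, ρ g (ρ g v) + ρ g v + v = 0)
include h3

theorem rel (a : K) (ha : a ≠ 0) (v : V) :
    ρ (lo a⁻¹) (ρ (up a) v) + ρ (up a) (ρ (lo a⁻¹) v) + v = 0 := by
  obtain ⟨ho, hsq⟩ := order_three a ha
  have h := h3 _ ho v
  rwa [← rho_mul ρ (up a * lo a⁻¹) (up a * lo a⁻¹), hsq, rho_mul, rho_mul] at h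

theorem neg_of_mem {v : V} (hv : v ∈ fixU ρ) : -v = v := neg_eq_of_add_eq_zero_left hv.1

theorem lo_fix {v : V} (hv : v ∈ fixU ρ) (b : K) : ρ (lo b) v = v + ρ wel (sc ρ b v) := by
  rcases eq_or_ne b 0 with rfl | hb
  · rw [CfsgLib.Qd.lo_zero, rho_one, sc_zero, map_zero, add_zero]
  have h := rel ρ h3 b⁻¹ (inv_ne_zero hb) v
  rw [inv_inv, hv.2] at h
  have hup : ρ (up b⁻¹) (ρ (lo b) v) = ρ wel (sc ρ b v) := by
    have e := up_lo_up (Units.mk0 b hb)
    rw [Units.val_inv_eq_inv_val, Units.val_mk0] at e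
    rw [sc_ne ρ hb, ← rho_mul, ← rho_mul, ← e, rho_mul ρ _ (up b⁻¹), hv.2]
  rw [hup] at h
  have hl : ρ (lo b) v + ρ (lo b) v = 0 := by rw [← map_add, hv.1, map_zero]
  have e1 : ρ (lo b) v = -(ρ wel (sc ρ b v) + v) :=
    eq_neg_of_add_eq_zero_left (by rw [← add_assoc]; exact h)
  have e2 : -(ρ (lo b) v) = ρ (lo b) v := neg_eq_of_add_eq_zero_left hl
  rw [← e2, e1, neg_neg, add_comm]

theorem sc_add {v : V} (hv : v ∈ fixU ρ) (b c : K) : sc ρ (b + c) v = sc ρ b v + sc ρ c v := by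
  have hu : sc ρ c v ∈ fixU ρ := sc_mem ρ hv c
  refine rho_injective ρ wel (add_left_cancel (a := v) ?_)
  rw [← lo_fix ρ h3 hv, ← CfsgLib.Qd.lo_mul, rho_mul, lo_fix ρ h3 hv c, map_add, map_add, lo_fix ρ h3 hv b]
  have e : ρ (lo b) (ρ wel (sc ρ c v)) = ρ wel (sc ρ c v) := by
    rw [← wel_up_wel, rho_mul, rho_mul, ← rho_mul ρ wel wel, wel_mul, rho_one, hu.2]
  rw [e, add_assoc]

theorem up_wel {v : V} (hv : v ∈ fixU ρ) (c : K) :
    ρ (up c) (ρ wel v) = ρ wel v + sc ρ c v := by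
  rcases eq_or_ne c 0 with rfl | hc
  · rw [CfsgLib.Qd.up_zero, rho_one, sc_zero, add_zero]
  have hu : sc ρ c v ∈ fixU ρ := sc_mem ρ hv c
  have h1 : ρ (lo c⁻¹) (sc ρ c v) = sc ρ c v + ρ wel v := by
    rw [lo_fix ρ h3 hu, ← sc_mul, inv_mul_cancel₀ hc, sc_one]
  have h2 := rel ρ h3 c hc (sc ρ c v)
  rw [hu.2, h1, map_add, hu.2] at h2
  have hw : ρ wel v + ρ wel v = 0 := by rw [← map_add, hv.1, map_zero]
  have h4 : -ρ wel v = ρ wel v := neg_eq_of_add_eq_zero_left hw
  have h5 := neg_of_mem ρ h3 hu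
  have e : ρ (up c) (ρ wel v) = -(sc ρ c v + ρ wel v + sc ρ c v + sc ρ c v) := by
    rw [eq_neg_iff_add_eq_zero]
    rw [← h2]
    abel
  rw [e, neg_add, neg_add, neg_add, h4, h5,
    show sc ρ c v + ρ wel v + sc ρ c v + sc ρ c v =
      ρ wel v + sc ρ c v + (sc ρ c v + sc ρ c v) by abel, hu.1, add_zero]

/-- the natural part -/
def natPart : AddSubgroup V where
  carrier := {v | ∃ x ∈ fixU ρ, ∃ y ∈ fixU ρ, v = x + ρ wel y}
  add_mem' := by
    rintro _ _ ⟨x, hx, y, hy, rfl⟩ ⟨x', hx', y', hy', rfl⟩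
    exact ⟨x + x', add_mem hx hx', y + y', add_mem hy hy', by rw [map_add]; abel⟩
  zero_mem' := ⟨0, zero_mem _, 0, zero_mem _, by simp⟩
  neg_mem' := by
    rintro _ ⟨x, hx, y, hy, rfl⟩
    exact ⟨-x, neg_mem hx, -y, neg_mem hy, by rw [map_neg]; abel⟩

theorem natPart_mem {x y : V} (hx : x ∈ fixU ρ) (hy : y ∈ fixU ρ) :
    x + ρ wel y ∈ natPart ρ := ⟨x, hx, y, hy, rfl⟩

theorem natPart_invariant (g : SL₂) : ∀ v ∈ natPart ρ, ρ g v ∈ natPart ρ := by
  have hg : g ∈ Subgroup.closure (Set.range (up (k := K)) ∪ {wel}) := by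
    rw [eq_top_of_up_wel _ (fun a => Subgroup.subset_closure (Or.inl ⟨a, rfl⟩))
      (Subgroup.subset_closure (Or.inr rfl))]
    trivial
  have hgen : ∀ s ∈ Set.range (up (k := K)) ∪ ({wel} : Set SL₂),
      ∀ v ∈ natPart ρ, ρ s v ∈ natPart ρ := by
    rintro s (⟨a, rfl⟩ | rfl) _ ⟨x, hx, y, hy, rfl⟩
    · rw [map_add, hx.2, up_wel ρ h3 hy, show x + (ρ wel y + sc ρ a y) = x + sc ρ a y + ρ wel y by abel]
      exact natPart_mem ρ h3 (add_mem hx (sc_mem ρ hy a)) hy
    · rw [map_add, ← rho_mul, wel_mul, rho_one, add_comm]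
      exact natPart_mem ρ h3 hy hx
  have hinv : ∀ s ∈ Set.range (up (k := K)) ∪ ({wel} : Set SL₂), s⁻¹ = s := by
    rintro s (⟨a, rfl⟩ | rfl)
    · exact inv_eq_of_mul_eq_one_right (up_mul_self a)
    · exact inv_eq_of_mul_eq_one_right wel_mul
  induction hg using Subgroup.closure_induction_left with
  | one => intro v hv; rw [rho_one]; exact hv
  | mul_left s hs t _ ih => intro v hv; rw [rho_mul]; exact hgen s hs _ (ih v hv)
  | inv_mul_cancel s hs t _ ih => intro v hv; rw [rho_mul, hinv s hs]; exact hgen s hs _ (ih v hv)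

theorem double_natPart {v : V} (hv : v ∈ natPart ρ) : v + v = 0 := by
  obtain ⟨x, hx, y, hy, rfl⟩ := hv
  rw [add_add_add_comm, hx.1, ← map_add, hy.1, map_zero, add_zero]

theorem eq_zero_of_decomp {x y : V} (hx : x ∈ fixU ρ) (hy : y ∈ fixU ρ) (h : x + ρ wel y = 0) :
    x = 0 ∧ y = 0 := by
  have h1 := congrArg (ρ (up (1 : K))) h
  rw [map_add, hx.2, up_wel ρ h3 hy, map_zero, sc_one, ← add_assoc, h, zero_add] at h1
  subst h1
  exact ⟨by rwa [map_zero, add_zero] at h, rfl⟩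

/-- an element of the natural part killed by `up a - 1` is fixed -/
theorem mem_fixU_of_natPart {a : K} (ha : a ≠ 0) {v : V} (hv : v ∈ natPart ρ)
    (h : ρ (up a) v = v) : v ∈ fixU ρ := by
  obtain ⟨x, hx, y, hy, rfl⟩ := hv
  rw [map_add, hx.2, up_wel ρ h3 hy, ← add_assoc, add_eq_left] at h
  have hy0 : y = 0 := by rw [← sc_one ρ y, ← inv_mul_cancel₀ ha, sc_mul, h, sc_ne ρ (inv_ne_zero ha), map_zero]
  rw [hy0, map_zero, add_zero]; exact hx

variable (hK : ∃ c : K, c ≠ 0 ∧ c ≠ 1) [Finite K]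
include hK

/-- there is no extension of the natural part -/
theorem mem_natPart_of_fixed {v : V} (h2 : v + v ∈ natPart ρ)
    (hv : ∀ a : K, ρ (up a) v - v ∈ natPart ρ) : v ∈ natPart ρ := by
  have hdelta : ∀ {u : V}, (∀ a : K, ρ (up a) u - u ∈ natPart ρ) → ∀ a : K, ρ (up a) u - u ∈ fixU ρ := by
    intro u hu a
    rcases eq_or_ne a 0 with rfl | ha
    · rw [CfsgLib.Qd.up_zero, rho_one, sub_self]; exact zero_mem _
    refine mem_fixU_of_natPart ρ h3 ha (hu a) ?_
    rw [map_sub, ← rho_mul, up_mul_self, rho_one, ← neg_sub, neg_eq_iff_add_eq_zero]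
    exact double_natPart ρ h3 (hu a)
  -- normalise
  obtain ⟨ξ, hξ, hξm⟩ : ∃ ξ, ξ = ρ (up (1 : K)) v - v ∧ ξ ∈ fixU ρ := ⟨_, rfl, hdelta hv 1⟩
  obtain ⟨v₁, hv₁⟩ : ∃ v₁, v₁ = v + ρ wel ξ := ⟨_, rfl⟩
  have hwξ : ρ wel ξ ∈ natPart ρ := by
    have h := natPart_mem ρ h3 (zero_mem (fixU ρ)) hξm
    rwa [zero_add] at h
  suffices hmain : v₁ ∈ natPart ρ by
    have h := sub_mem hmain hwξ
    rwa [hv₁, add_sub_cancel_right] at h
  have h2' : v₁ + v₁ ∈ natPart ρ := by
    rw [hv₁, add_add_add_comm]; exact add_mem h2 (add_mem hwξ hwξ)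
  have hv' : ∀ a : K, ρ (up a) v₁ - v₁ ∈ fixU ρ := fun a => hdelta (fun a => by
    rw [hv₁, map_add, show ρ (up a) v + ρ (up a) (ρ wel ξ) - (v + ρ wel ξ) =
      (ρ (up a) v - v) + (ρ (up a) (ρ wel ξ) - ρ wel ξ) by abel]
    exact add_mem (hv a) (sub_mem (natPart_invariant ρ h3 _ _ hwξ) hwξ)) a
  have hv1 : ρ (up (1 : K)) v₁ = v₁ := by
    rw [hv₁, map_add, up_wel ρ h3 hξm, sc_one]
    conv_lhs => rw [show ρ (up (1 : K)) v = v + ξ by rw [hξ]; abel]
    rw [show v + ξ + (ρ wel ξ + ξ) = v + ρ wel ξ + (ξ + ξ) by abel, hξm.1, add_zero]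
  clear! v
  obtain ⟨e, he⟩ : ∃ e, e = v₁ + v₁ := ⟨_, rfl⟩
  have hem : e ∈ fixU ρ := by
    refine mem_fixU_of_natPart ρ h3 one_ne_zero (he ▸ h2') ?_
    rw [he, map_add, hv1]
  obtain ⟨d, hd⟩ : ∃ d : K → V, d = fun a => ρ (up a) v₁ - v₁ := ⟨_, rfl⟩
  have hdm : ∀ a, d a ∈ fixU ρ := fun a => hd ▸ hv' a
  have hup : ∀ a, ρ (up a) v₁ = v₁ + d a := fun a => by rw [hd]; exact (add_sub_cancel v₁ _).symm
  have hd_add : ∀ a b, d (a + b) = d a + d b := by
    intro a b
    have h := hup (a + b)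
    rw [← CfsgLib.Qd.up_mul, rho_mul, hup, map_add, hup, (hdm b).2, add_assoc] at h
    exact (add_left_cancel h).symm
  have hd1 : d 1 = 0 := by rw [hd]; simp [hv1]
  -- the partner of `v₁`
  obtain ⟨v', hv'def⟩ : ∃ v', v' = ρ (lo (1 : K)) v₁ - v₁ := ⟨_, rfl⟩
  have hv'2 : v' + v' = ρ wel e := by
    have h := lo_fix ρ h3 hem 1
    rw [sc_one] at h
    rw [hv'def, sub_add_sub_comm, ← map_add, ← he, h, add_sub_cancel_left]
  have hwe : -(ρ wel e) = ρ wel e := neg_eq_of_add_eq_zero_left (by rw [← map_add, hem.1, map_zero])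
  have hA1 : ρ (up (1 : K)) v' = v' + v₁ + ρ wel e := by
    have h := rel ρ h3 (1 : K) one_ne_zero v₁
    rw [inv_one, hv1] at h
    have hl : ρ (lo (1 : K)) v₁ = v₁ + v' := by rw [hv'def]; abel
    rw [hl, map_add, hv1] at h
    have h4 : ρ (up (1 : K)) v' = -(v₁ + v' + v₁ + v₁) := by
      rw [eq_neg_iff_add_eq_zero, ← h]; abel
    rw [h4, show v₁ + v' + v₁ + v₁ = -(v' + v₁) + ((v' + v') + ((v₁ + v₁) + (v₁ + v₁))) by abel, hv'2,
      ← he, hem.1, add_zero, neg_add, neg_neg, hwe]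
  -- the action modulo the natural part
  have hmod : ∀ (g : SL₂) {x y : V}, x - y ∈ natPart ρ → ρ g x - ρ g y ∈ natPart ρ :=
    fun g {x y} h => by rw [← map_sub]; exact natPart_invariant ρ h3 g _ h
  have hquot : ∀ c : K, c ≠ 0 → ∃ x ∈ fixU ρ, ∃ y ∈ fixU ρ,
      ρ (up c) v' - v' = sc ρ c v₁ + (x + ρ wel y) := by
    intro c hc
    suffices h : ρ (up c) v' - v' - sc ρ c v₁ ∈ natPart ρ by
      obtain ⟨x, hx, y, hy, hxy⟩ := h
      exact ⟨x, hx, y, hy, by rw [← hxy]; abel⟩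
    -- the fixed points modulo the natural part behave as natural modules
    have hloU : ∀ u : V, u + u ∈ natPart ρ → (∀ a : K, ρ (up a) u - u ∈ natPart ρ) →
        ∀ b : K, b ≠ 0 → ρ (lo b) u + u - ρ wel (sc ρ b u) ∈ natPart ρ ∧
          ρ (up b⁻¹) (ρ (lo b) u) - ρ (lo b) u - u ∈ natPart ρ := by
      intro u hu2 hu b hb
      have h := rel ρ h3 b⁻¹ (inv_ne_zero hb) u
      rw [inv_inv] at h
      have hA := hmod (lo b) (hu b⁻¹)
      have hL : ρ (lo b) u + ρ (lo b) u ∈ natPart ρ := by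
        rw [← map_add]; exact natPart_invariant ρ h3 _ _ hu2
      have hU : ρ (up b⁻¹) (ρ (lo b) u) - ρ (lo b) u - u ∈ natPart ρ := by
        have e1 : ρ (up b⁻¹) (ρ (lo b) u) - ρ (lo b) u - u =
            -(ρ (lo b) (ρ (up b⁻¹) u) - ρ (lo b) u) - (ρ (lo b) u + ρ (lo b) u) - (u + u) := by
          rw [← sub_eq_zero]
          rw [← h]
          abel
        rw [e1]
        exact sub_mem (sub_mem (neg_mem hA) hL) hu2
      refine ⟨?_, hU⟩
      have e : ρ (up b⁻¹) (ρ (lo b) (ρ (up b⁻¹) u)) = ρ wel (sc ρ b u) := by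
        have e := up_lo_up (Units.mk0 b hb)
        rw [Units.val_inv_eq_inv_val, Units.val_mk0] at e
        rw [sc_ne ρ hb, ← rho_mul, ← rho_mul, ← rho_mul, e]
      have hB := hmod (up b⁻¹) hA
      rw [e] at hB
      have e1 : ρ (lo b) u + u - ρ wel (sc ρ b u) =
          -(ρ wel (sc ρ b u) - ρ (up b⁻¹) (ρ (lo b) u)) - (ρ (up b⁻¹) (ρ (lo b) u) - ρ (lo b) u - u) := by
        abel
      rw [e1]
      exact sub_mem (neg_mem hB) hU
    have hdiff : ∀ a : K, ρ (up a) v₁ - v₁ ∈ natPart ρ := fun a => by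
      have h := natPart_mem ρ h3 (hv' a) (zero_mem (fixU ρ))
      rwa [map_zero, add_zero] at h
    obtain ⟨u, hu⟩ : ∃ u, u = sc ρ c v₁ := ⟨_, rfl⟩
    have hu2 : u + u ∈ natPart ρ := by
      rw [hu, sc_ne ρ hc, ← map_add]; exact natPart_invariant ρ h3 _ _ h2'
    have huf : ∀ a : K, ρ (up a) u - u ∈ natPart ρ := fun a => by
      rw [hu, sc_ne ρ hc, ← rho_mul, up_tor, rho_mul]
      exact hmod _ (hdiff _)
    have hb := hloU u hu2 huf c⁻¹ (inv_ne_zero hc)
    rw [inv_inv] at hb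
    have h1 := (hloU v₁ h2' hdiff 1 one_ne_zero).1
    rw [sc_one] at h1
    rw [show sc ρ c⁻¹ u = v₁ by rw [hu, ← sc_mul, inv_mul_cancel₀ hc, sc_one]] at hb
    have hcong : v' - (ρ (lo c⁻¹) u + u) ∈ natPart ρ := by
      have e1 : v' - (ρ (lo c⁻¹) u + u) = (ρ (lo (1 : K)) v₁ + v₁ - ρ wel v₁) -
          (ρ (lo c⁻¹) u + u - ρ wel v₁) - (v₁ + v₁) := by rw [hv'def]; abel
      rw [e1]
      exact sub_mem (sub_mem h1 hb.1) h2'
    have hA := hmod (up c) hcong
    rw [← hu]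
    have e1 : ρ (up c) v' - v' - u =
        (ρ (up c) v' - ρ (up c) (ρ (lo c⁻¹) u + u)) - (v' - (ρ (lo c⁻¹) u + u)) +
          ((ρ (up c) (ρ (lo c⁻¹) u) - ρ (lo c⁻¹) u - u) + (ρ (up c) u - u)) := by
      rw [map_add]; abel
    rw [e1]
    exact add_mem (sub_mem hA hcong) (add_mem hb.2 (huf c))
  -- the functional equations
  have htor : ∀ c : K, c ≠ 0 → ∀ a : K,
      ρ (up a) (sc ρ c v₁) = sc ρ c v₁ + sc ρ c (d (c⁻¹ * c⁻¹ * a)) := by
    intro c hc a
    rw [sc_ne ρ hc, ← rho_mul, up_tor, rho_mul, hup, map_add, sc_ne ρ hc]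
    simp
  have key : ∀ c : K, c ≠ 0 → d c + sc ρ c e = sc ρ c (d (c⁻¹ * c⁻¹)) + d c⁻¹ + e := by
    intro c hc
    obtain ⟨x, hx, y, hy, hxy⟩ := hquot c hc
    have hup' : ρ (up c) v' = v' + (sc ρ c v₁ + (x + ρ wel y)) := by rw [← hxy]; abel
    -- apply the two operators in both orders
    have h1 : d c + sc ρ c e = sc ρ c (d (c⁻¹ * c⁻¹)) + y := by
      have e1 : ρ (up c) (ρ (up (1 : K)) v') = ρ (up (1 : K)) (ρ (up c) v') := by
        rw [← rho_mul, ← rho_mul, CfsgLib.Qd.up_mul, CfsgLib.Qd.up_mul, add_comm]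
      rw [hA1, hup'] at e1
      simp only [map_add] at e1
      rw [hup', hup, hA1, up_wel ρ h3 hem, htor c hc, up_wel ρ h3 hy, hx.2, mul_one, sc_one] at e1
      rw [← sub_eq_zero] at e1 ⊢
      rw [← e1]
      abel
    -- the operator squares to minus two times itself
    have h2 : sc ρ c e = sc ρ c (d c⁻¹) + sc ρ c y := by
      have e1 : ρ (up c) (ρ (up c) v') = v' := by rw [← rho_mul, up_mul_self, rho_one]
      rw [hup', map_add, hup', map_add, map_add, htor c hc, up_wel ρ h3 hy, hx.2,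
        mul_assoc, inv_mul_cancel₀ hc, mul_one] at e1
      have hxx := hx.1
      have hyy : ρ wel y + ρ wel y = 0 := by rw [← map_add, hy.1, map_zero]
      have hsc : sc ρ c v₁ + sc ρ c v₁ = sc ρ c e := by rw [← sc_add_right, ← he]
      have e2 : (sc ρ c v₁ + sc ρ c v₁) + (x + x) + (ρ wel y + ρ wel y) +
          (sc ρ c (d c⁻¹) + sc ρ c y) = 0 := by
        rw [← sub_eq_zero] at e1
        rw [← e1]
        abel
      rw [hsc, hxx, hyy, add_zero, add_zero, add_eq_zero_iff_eq_neg] at e2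
      rw [e2, neg_add, neg_of_mem ρ h3 (sc_mem ρ (hdm _) c), neg_of_mem ρ h3 (sc_mem ρ hy c)]
    have h2' : e = d c⁻¹ + y := by
      have h := congrArg (sc ρ c⁻¹) h2
      rwa [sc_add_right, ← sc_mul, ← sc_mul, ← sc_mul, inv_mul_cancel₀ hc, sc_one, sc_one, sc_one] at h
    rw [h1, h2', add_assoc, ← add_assoc (d c⁻¹), (hdm _).1, zero_add]
  letI : Module K (fixU ρ) :=
    { smul := fun b u => ⟨sc ρ b u, sc_mem ρ u.2 b⟩
      one_smul := fun u => Subtype.ext (sc_one ρ _)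
      mul_smul := fun b c u => Subtype.ext (sc_mul ρ b c _)
      smul_zero := fun b => Subtype.ext (show sc ρ b 0 = 0 by unfold sc; split_ifs <;> simp)
      smul_add := fun b u w => Subtype.ext (sc_add_right ρ b _ _)
      add_smul := fun b c u => Subtype.ext (sc_add ρ h3 u.2 b c)
      zero_smul := fun u => Subtype.ext (sc_zero ρ _) }
  obtain ⟨D, hD⟩ : ∃ D : K → fixU ρ, D = fun a => ⟨d a, hdm a⟩ := ⟨_, rfl⟩
  obtain ⟨ee, hee⟩ : ∃ ee : fixU ρ, ee = ⟨e, hem⟩ := ⟨_, rfl⟩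
  have hDadd : ∀ a b, D (a + b) = D a + D b := fun a b => by rw [hD]; exact Subtype.ext (hd_add a b)
  have hD1 : D 1 = 0 := by rw [hD]; exact Subtype.ext hd1
  have keyD : ∀ c : K, c ≠ 0 → D c + c • ee = c • D (c⁻¹ * c⁻¹) + D c⁻¹ + ee := fun c hc => by
    rw [hD, hee]; exact Subtype.ext (key c hc)
  have hneg : ∀ u : fixU ρ, -u = u := fun u => Subtype.ext (neg_of_mem ρ h3 u.2)
  have hsq : ∀ c : K, c ≠ 0 → D (c⁻¹ * c⁻¹) + ee = (c⁻¹ * c⁻¹) • D (c * c) + (c⁻¹ * c⁻¹) • ee := by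
    intro c hc
    have k1 := keyD c hc
    have k2 := keyD c⁻¹ (inv_ne_zero hc)
    simp only [inv_inv] at k2
    have k3 : c⁻¹ • (c • D (c⁻¹ * c⁻¹) + c • ee) = c⁻¹ • (c⁻¹ • D (c * c) + c⁻¹ • ee) := by
      congr 1
      have k : D c + D c⁻¹ = c • D (c⁻¹ * c⁻¹) + ee + c • ee := by
        rw [← sub_eq_zero] at k1 ⊢
        have hz : D c⁻¹ + D c⁻¹ = 0 := by
          conv_lhs => enter [1]; rw [← hneg (D c⁻¹)]
          exact neg_add_cancel _
        have hz2 : c • ee + c • ee = 0 := by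
          conv_lhs => enter [1]; rw [← hneg (c • ee)]
          exact neg_add_cancel _
        calc _ = (D c + c • ee - (c • D (c⁻¹ * c⁻¹) + D c⁻¹ + ee)) + (D c⁻¹ + D c⁻¹) - (c • ee + c • ee) := by abel
          _ = 0 := by rw [k1, hz, hz2, add_zero, sub_zero]
      have k' : D c + D c⁻¹ = c⁻¹ • D (c * c) + ee + c⁻¹ • ee := by
        rw [← sub_eq_zero] at k2 ⊢
        have hz : D c + D c = 0 := by
          conv_lhs => enter [1]; rw [← hneg (D c)]
          exact neg_add_cancel _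
        have hz2 : c⁻¹ • ee + c⁻¹ • ee = 0 := by
          conv_lhs => enter [1]; rw [← hneg (c⁻¹ • ee)]
          exact neg_add_cancel _
        calc _ = (D c⁻¹ + c⁻¹ • ee - (c⁻¹ • D (c * c) + D c + ee)) + (D c + D c) - (c⁻¹ • ee + c⁻¹ • ee) := by abel
          _ = 0 := by rw [k2, hz, hz2, add_zero, sub_zero]
      have k'' := k.symm.trans k'
      rw [add_right_comm, add_right_comm (c⁻¹ • D (c * c))] at k''
      exact add_right_cancel k''
    rw [smul_add, smul_smul, smul_smul, inv_mul_cancel₀ hc, one_smul, one_smul, smul_add, smul_smul,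
      smul_smul] at k3
    exact k3
  haveI : Fact (Nat.Prime 2) := ⟨Nat.prime_two⟩
  have hroot : ∀ μ : K, ∃ c, c * c = μ := fun μ => by
    have hinj : Function.Injective fun c : K => c * c := fun a b h => by
      have : (a - b) ^ 2 = 0 := by linear_combination h + (b * b - a * b) * two_K (K := K)
      exact sub_eq_zero.1 (pow_eq_zero_iff two_ne_zero |>.1 this)
    exact Finite.injective_iff_surjective.1 hinj μ
  have hinvD : ∀ μ : K, μ ≠ 0 → D μ⁻¹ + ee = μ⁻¹ • D μ + μ⁻¹ • ee := by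
    intro μ hμ
    obtain ⟨c, rfl⟩ := hroot μ
    rw [mul_inv]
    exact hsq c (left_ne_zero_of_mul hμ)
  have hdouble : ∀ c : K, D (c * c) = (c + 1) • D c := by
    intro c
    rcases eq_or_ne c 0 with rfl | hc
    · have h0 : D 0 = 0 := by have := hDadd 0 0; rwa [add_zero, left_eq_add] at this
      rw [mul_zero, h0, smul_zero]
    have k1 := keyD c hc
    have i1 := hinvD (c * c) (mul_ne_zero hc hc)
    rw [mul_inv] at i1
    have i2 := hinvD c hc
    have e1 : D (c⁻¹ * c⁻¹) = (c⁻¹ * c⁻¹) • D (c * c) + (c⁻¹ * c⁻¹) • ee - ee := eq_sub_of_add_eq i1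
    have e2 : D c⁻¹ = c⁻¹ • D c + c⁻¹ • ee - ee := eq_sub_of_add_eq i2
    rw [e1, e2] at k1
    have k3 := congrArg (fun u => c • u) k1
    simp only [smul_add, smul_sub, smul_smul] at k3
    rw [show c * (c * (c⁻¹ * c⁻¹)) = 1 by field_simp, mul_inv_cancel₀ hc, one_smul, one_smul, one_smul] at k3
    rw [← sub_eq_zero] at k3
    have hz : ∀ u : fixU ρ, u + u = 0 := fun u => by
      conv_lhs => enter [1]; rw [← hneg u]
      exact neg_add_cancel u
    rw [add_smul, one_smul, ← sub_eq_zero]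
    calc D (c * c) - (c • D c + D c) =
        -((c • D c + (c * c) • ee) - (D (c * c) + ee - (c * c) • ee + (D c + ee - c • ee) + c • ee))
          - (D c + D c) - (ee + ee) + ((c * c) • ee + (c * c) • ee) := by abel
      _ = 0 := by rw [k3, hz, hz, hz]; abel
  have hD0 : ∀ c : K, D c = 0 := by
    intro c
    have h := hdouble (c + 1)
    rw [show (c + 1) * (c + 1) = c * c + 1 by linear_combination c * two_K (K := K), hDadd, hD1, add_zero,
      hdouble, hDadd, hD1, add_zero, show c + 1 + 1 = c by linear_combination two_K (K := K),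
      add_smul, one_smul, add_eq_left] at h
    exact h
  have he0 : ee = 0 := by
    obtain ⟨c, hc0, hc1⟩ := hK
    have h := hinvD c hc0
    rw [hD0, hD0, smul_zero, zero_add, zero_add] at h
    by_contra hne
    have h' : (1 - c⁻¹) • ee = 0 := by rw [sub_smul, one_smul, ← h, sub_self]
    rcases smul_eq_zero.1 h' with h'' | h''
    · exact hc1 (inv_eq_one.1 (sub_eq_zero.1 h'').symm)
    · exact hne h''
  have hfix : v₁ ∈ fixU ρ := by
    refine ⟨?_, fun a => ?_⟩
    · have : e = 0 := by simpa [hee] using congrArg Subtype.val he0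
      rw [← he, this]
    · have : d a = 0 := by simpa [hD] using congrArg Subtype.val (hD0 a)
      rw [hup, this, add_zero]
  have h := natPart_mem ρ h3 hfix (zero_mem (fixU ρ))
  rwa [map_zero, add_zero] at h

variable [Finite V]

/-- the group is the natural part -/
theorem natPart_eq_top (hV : ∀ v : V, ∃ k : ℕ, 2 ^ k • v = 0) : natPart ρ = ⊤ := by
  classical
  by_contra hne
  obtain ⟨v₀, hv₀⟩ : ∃ v, v ∉ natPart ρ := by
    by_contra hno
    push Not at hno
    exact hne (eq_top_iff.2 fun v _ => hno v)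
  obtain ⟨X, hX⟩ : ∃ X, X = natPart ρ := ⟨_, rfl⟩
  obtain ⟨v₁, hv₁, hv₁2⟩ : ∃ v, v ∉ X ∧ v + v ∈ X := by
    obtain ⟨k, hk⟩ := hV v₀
    induction k generalizing v₀ with
    | zero => rw [pow_zero, one_smul] at hk; exact absurd (hk ▸ zero_mem _) hv₀
    | succ k ih =>
      by_cases h : v₀ + v₀ ∈ X
      · exact ⟨v₀, hX ▸ hv₀, h⟩
      · exact ih (v₀ + v₀) (hX ▸ h) (by rw [← two_nsmul, ← mul_nsmul', ← pow_succ, hk])
  obtain ⟨q, hq⟩ : ∃ q : Multiplicative K → (V ⧸ X) →+ (V ⧸ X),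
      ∀ a, ∀ v : V, q a (QuotientAddGroup.mk v) = QuotientAddGroup.mk (ρ (up (Multiplicative.toAdd a)) v) :=
    ⟨fun a => QuotientAddGroup.map X X (ρ (up (Multiplicative.toAdd a)))
      (fun v hv => by rw [hX] at hv ⊢; exact natPart_invariant ρ h3 _ v hv), fun a v => rfl⟩
  obtain ⟨S, hS⟩ : ∃ S : AddSubgroup (V ⧸ X), ∀ z, z ∈ S ↔ z + z = 0 :=
    ⟨{ carrier := {z | z + z = 0}
       add_mem' := fun {x y} hx hy => by
         show x + y + (x + y) = 0
         rw [add_add_add_comm, show x + x = 0 from hx, show y + y = 0 from hy, add_zero]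
       zero_mem' := add_zero 0
       neg_mem' := fun {x} hx => by
         show -x + -x = 0
         rw [← neg_add, show x + x = 0 from hx, neg_zero] }, fun z => Iff.rfl⟩
  letI : SMul (Multiplicative K) S :=
    ⟨fun a z => ⟨q a z.1, (hS _).2 (by rw [← map_add, (hS _).1 z.2, map_zero])⟩⟩
  letI : MulAction (Multiplicative K) S :=
    { one_smul := fun z => Subtype.ext (by
        show q 1 z.1 = z.1
        refine QuotientAddGroup.induction_on z.1 fun v => ?_
        rw [hq, toAdd_one, CfsgLib.Qd.up_zero, rho_one])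
      mul_smul := fun a b z => Subtype.ext (by
        show q (a * b) z.1 = q a (q b z.1)
        refine QuotientAddGroup.induction_on z.1 fun v => ?_
        rw [hq, hq, hq, toAdd_mul, ← CfsgLib.Qd.up_mul, rho_mul]) }
  haveI : Finite (V ⧸ X) := Finite.of_surjective _ (QuotientAddGroup.mk'_surjective X)
  haveI : Fact (Nat.Prime 2) := ⟨Nat.prime_two⟩
  have hP : IsPGroup 2 (Multiplicative K) := fun a => ⟨1, by
    rw [pow_one, pow_two]
    exact congrArg Multiplicative.ofAdd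
      (show Multiplicative.toAdd a + Multiplicative.toAdd a = 0 by linear_combination (Multiplicative.toAdd a) * two_K (K := K))⟩
  have hz : (QuotientAddGroup.mk v₁ : V ⧸ X) ∈ S := (hS _).2 (by
    rw [← QuotientAddGroup.mk_add, QuotientAddGroup.eq_zero_iff]; exact hv₁2)
  have hdvd : 2 ∣ Nat.card S := by
    have ho : addOrderOf (⟨_, hz⟩ : S) = 2 := by
      refine addOrderOf_eq_prime (Subtype.ext ?_) fun h => hv₁ ?_
      · show 2 • (QuotientAddGroup.mk v₁ : V ⧸ X) = 0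
        rw [two_nsmul]; exact (hS _).1 hz
      · exact (QuotientAddGroup.eq_zero_iff v₁).1 (congrArg Subtype.val h)
    exact ho ▸ addOrderOf_dvd_natCard (⟨_, hz⟩ : S)
  have h0 : (0 : S) ∈ MulAction.fixedPoints (Multiplicative K) S := fun a => Subtype.ext (map_zero (q a))
  obtain ⟨z, hzfix, hz0⟩ := hP.exists_fixed_point_of_prime_dvd_card_of_fixed_point S hdvd h0
  obtain ⟨z, hzS⟩ := z
  induction z using QuotientAddGroup.induction_on with
  | H v =>
    have hvX : v ∈ natPart ρ := by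
      refine mem_natPart_of_fixed ρ h3 hK ?_ fun a => ?_
      · have h := (hS _).1 hzS
        rw [← QuotientAddGroup.mk_add, QuotientAddGroup.eq_zero_iff] at h
        exact hX ▸ h
      · have h : q (Multiplicative.ofAdd a) (QuotientAddGroup.mk v) = QuotientAddGroup.mk v :=
          congrArg Subtype.val (hzfix (Multiplicative.ofAdd a))
        rw [hq, toAdd_ofAdd, QuotientAddGroup.eq_iff_sub_mem] at h
        exact hX ▸ h
    exact hz0 (Subtype.ext ((QuotientAddGroup.eq_zero_iff v).2 (hX ▸ hvX)).symm)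

/-- such a group is a sum of natural modules -/
theorem exists_natural_equiv (hV : ∀ v : V, ∃ k : ℕ, 2 ^ k • v = 0) :
    ∃ (k : ℕ) (Φ : (Fin k → Fin 2 → K) ≃+ V), ∀ g f,
      ρ g (Φ f) = Φ (fun i => g.1.mulVec (f i)) := by
  classical
  letI : Module K (fixU ρ) :=
    { smul := fun b u => ⟨sc ρ b u, sc_mem ρ u.2 b⟩
      one_smul := fun u => Subtype.ext (sc_one ρ _)
      mul_smul := fun b c u => Subtype.ext (sc_mul ρ b c _)
      smul_zero := fun b => Subtype.ext (show sc ρ b 0 = 0 by unfold sc; split_ifs <;> simp)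
      smul_add := fun b u w => Subtype.ext (sc_add_right ρ b _ _)
      add_smul := fun b c u => Subtype.ext (sc_add ρ h3 u.2 b c)
      zero_smul := fun u => Subtype.ext (sc_zero ρ _) }
  obtain ⟨k, b⟩ : ∃ k : ℕ, Nonempty (Module.Basis (Fin k) K (fixU ρ)) :=
    ⟨_, ⟨Module.finBasis K (fixU ρ)⟩⟩
  obtain ⟨b⟩ := b
  obtain ⟨co, hco⟩ : ∃ co : Fin 2 → ((Fin k → Fin 2 → K) →+ fixU ρ),
      ∀ j f, co j f = b.equivFun.symm (fun i => f i j) :=
    ⟨fun j => { toFun := fun f => b.equivFun.symm (fun i => f i j)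
                map_zero' := by exact map_zero b.equivFun.symm
                map_add' := fun f g => by exact map_add b.equivFun.symm (fun i => f i j) (fun i => g i j) },
      fun j f => rfl⟩
  obtain ⟨Φ₀, hΦ⟩ : ∃ Φ₀ : (Fin k → Fin 2 → K) →+ V,
      ∀ f, Φ₀ f = (co 0 f : V) + ρ wel (co 1 f : V) :=
    ⟨(fixU ρ).subtype.comp (co 0) + (ρ wel).comp ((fixU ρ).subtype.comp (co 1)), fun f => rfl⟩
  have hinj : Function.Injective Φ₀ := by
    rw [injective_iff_map_eq_zero]
    intro f hf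
    rw [hΦ] at hf
    obtain ⟨e0, e1⟩ := eq_zero_of_decomp ρ h3 (co 0 f).2 (co 1 f).2 hf
    have key : ∀ j, (fun i => f i j) = 0 := fun j => by
      refine b.equivFun.symm.injective ?_
      rw [map_zero, ← hco]
      fin_cases j
      · exact Subtype.ext e0
      · exact Subtype.ext e1
    funext i j
    exact congrFun (key j) i
  have hsurj : Function.Surjective Φ₀ := by
    intro v
    obtain ⟨x, hx, y, hy, rfl⟩ : v ∈ natPart ρ := natPart_eq_top ρ h3 hK hV ▸ trivial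
    refine ⟨fun i j => if j = 0 then b.equivFun ⟨x, hx⟩ i else b.equivFun ⟨y, hy⟩ i, ?_⟩
    rw [hΦ, hco, hco]
    simp
  refine ⟨k, AddEquiv.ofBijective Φ₀ ⟨hinj, hsurj⟩, fun g f => ?_⟩
  show ρ g (Φ₀ f) = Φ₀ _
  have hg : g ∈ Subgroup.closure (Set.range (up (k := K)) ∪ {wel}) := by
    rw [eq_top_of_up_wel _ (fun a => Subgroup.subset_closure (Or.inl ⟨a, rfl⟩))
      (Subgroup.subset_closure (Or.inr rfl))]
    trivial
  have hgen : ∀ s ∈ Set.range (up (k := K)) ∪ ({wel} : Set SL₂), ∀ f : Fin k → Fin 2 → K,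
      ρ s (Φ₀ f) = Φ₀ (fun i => s.1.mulVec (f i)) := by
    rintro s (⟨a, rfl⟩ | rfl) f
    · have c0 : co 0 (fun i => (up a).1.mulVec (f i)) = co 0 f + a • co 1 f := by
        rw [hco, hco, hco, ← map_smul, ← map_add]
        congr 1
        funext i
        simp [Matrix.mulVec, dotProduct, Fin.sum_univ_two]
      have c1 : co 1 (fun i => (up a).1.mulVec (f i)) = co 1 f := by
        rw [hco, hco]
        congr 1
        funext i
        simp [Matrix.mulVec, dotProduct, Fin.sum_univ_two]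
      rw [hΦ, hΦ, c0, c1, map_add, (co 0 f).2.2, up_wel ρ h3 (co 1 f).2]
      show _ = (co 0 f : V) + sc ρ a (co 1 f : V) + _
      abel
    · have c0 : co 0 (fun i => (wel : SL₂).1.mulVec (f i)) = co 1 f := by
        rw [hco, hco]
        congr 1
        funext i
        simp [Matrix.mulVec, dotProduct, Fin.sum_univ_two, wel_coe]
      have c1 : co 1 (fun i => (wel : SL₂).1.mulVec (f i)) = co 0 f := by
        rw [hco, hco]
        congr 1
        funext i
        simp [Matrix.mulVec, dotProduct, Fin.sum_univ_two, wel_coe]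
      rw [hΦ, hΦ, c0, c1, map_add, ← rho_mul, wel_mul, rho_one, add_comm]
  have hinv : ∀ s ∈ Set.range (up (k := K)) ∪ ({wel} : Set SL₂), s⁻¹ = s := by
    rintro s (⟨a, rfl⟩ | rfl)
    · exact inv_eq_of_mul_eq_one_right (up_mul_self a)
    · exact inv_eq_of_mul_eq_one_right wel_mul
  induction hg using Subgroup.closure_induction_left generalizing f with
  | one => rw [rho_one]; simp
  | mul_left s hs t _ ih =>
    rw [rho_mul, ih, hgen s hs]
    simp [Matrix.mulVec_mulVec]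
  | inv_mul_cancel s hs t _ ih =>
    rw [hinv s hs, rho_mul, ih, hgen s hs]
    simp [Matrix.mulVec_mulVec]

end CfsgLib.SLTwoFpf
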