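import Cfsg.Agent.Lib.SLTwoFpf.Abelian

/-!
# A two-group extended by `SL₂(2ⁿ)` with a fixed-point-free element of order three is abelian
-/

set_option autoImplicit false
set_option linter.style.haveILetI false
set_option linter.unusedSectionVars false

namespace CfsgLib.SLTwoFpf

open CfsgLib.Qd (up lo ext2 mul00 mul01 mul10 mul11)
open QuotientGroup (mk')

universe u

variable {K : Type*} [Field K] [CharP K 2]

local notation "SL₂" => Matrix.SpecialLinearGroup (Fin 2) K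

theorem root_exists [Finite K] (μ : K) : ∃ c, c * c = μ := by
  have hinj : Function.Injective fun c : K => c * c := fun a b h => by
    have : (a - b) ^ 2 = 0 := by linear_combination h + (b * b - a * b) * two_K (K := K)
    exact sub_eq_zero.1 (pow_eq_zero_iff two_ne_zero |>.1 this)
  exact Finite.injective_iff_surjective.1 hinj μ

/-- an element of order three has trace one -/
theorem trace_of_order_three (l : SL₂) (hl : orderOf l = 3) : l.1 0 0 + l.1 1 1 = 1 := by
  by_contra ht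
  have h2 := two_K (K := K)
  have hd := CfsgLib.Qd.det2 l
  have h3 : l * l * l = 1 := by rw [← pow_two, ← pow_succ, show 2 + 1 = orderOf l from hl.symm, pow_orderOf_eq_one]
  obtain ⟨t, htd⟩ : ∃ t, t = l.1 0 0 + l.1 1 1 := ⟨_, rfl⟩
  rw [← htd] at ht
  have e00 := congrArg (fun g : SL₂ => g.1 0 0) h3
  have e01 := congrArg (fun g : SL₂ => g.1 0 1) h3
  have e10 := congrArg (fun g : SL₂ => g.1 1 0) h3
  have e11 := congrArg (fun g : SL₂ => g.1 1 1) h3
  simp [mul00, mul01, mul10, mul11] at e00 e01 e10 e11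
  have hne : (t + 1) ^ 2 ≠ 0 := pow_ne_zero 2 fun h => ht (by linear_combination h - h2)
  have hb : l.1 0 1 = 0 := by
    refine (mul_eq_zero.1 (show (t + 1) ^ 2 * l.1 0 1 = 0 by subst htd; linear_combination e01 + l.1 0 1 * hd + (l.1 0 1 * (l.1 0 0 + l.1 1 1) + l.1 0 1) * h2)).resolve_left hne
  have hc : l.1 1 0 = 0 := by
    refine (mul_eq_zero.1 (show (t + 1) ^ 2 * l.1 1 0 = 0 by subst htd; linear_combination e10 + l.1 1 0 * hd + (l.1 1 0 * (l.1 0 0 + l.1 1 1) + l.1 1 0) * h2)).resolve_left hne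
  have hsame : l.1 0 0 = l.1 1 1 := by
    rw [← sub_eq_zero]
    refine (mul_eq_zero.1 (show (t + 1) ^ 2 * (l.1 0 0 - l.1 1 1) = 0 by subst htd; linear_combination e00 - e11 + (l.1 0 0 - l.1 1 1) * hd + ((l.1 0 0 - l.1 1 1) * (l.1 0 0 + l.1 1 1) + (l.1 0 0 - l.1 1 1)) * h2)).resolve_left hne
  have h1 : l.1 0 0 = 1 := by
    rw [hb, hc, ← hsame] at hd
    have : (l.1 0 0 - 1) ^ 2 = 0 := by linear_combination hd - (l.1 0 0 - 1) * h2
    exact sub_eq_zero.1 (pow_eq_zero_iff two_ne_zero |>.1 this)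
  have : l = 1 := ext2 (by simpa using h1) (by simpa using hb) (by simpa using hc) (by simpa using hsame ▸ h1)
  rw [this, orderOf_one] at hl
  omega

/-- elements of order three are conjugate -/
theorem conj_of_order_three [Finite K] (l m : SL₂) (hl : orderOf l = 3) (hm : orderOf m = 3) :
    ∃ k : SL₂, k * l * k⁻¹ = m := by
  obtain ⟨comp, hcomp⟩ : ∃ c : SL₂, c.1 = !![0, 1; 1, 1] :=
    ⟨⟨!![0, 1; 1, 1], by simp [Matrix.det_fin_two, neg_K]⟩, rfl⟩
  suffices key : ∀ l : SL₂, orderOf l = 3 → ∃ P : SL₂, l * P = P * comp by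
    obtain ⟨P, hP⟩ := key l hl
    obtain ⟨R, hR⟩ := key m hm
    refine ⟨R * P⁻¹, ?_⟩
    calc R * P⁻¹ * l * (R * P⁻¹)⁻¹ = R * (P⁻¹ * (l * P)) * R⁻¹ := by group
      _ = R * comp * R⁻¹ := by rw [hP]; group
      _ = m := by rw [← hR]; group
  intro l hl
  have h2 := two_K (K := K)
  have hd := CfsgLib.Qd.det2 l
  have ht := trace_of_order_three l hl
  obtain ⟨v₀, v₁, hdet⟩ : ∃ v₀ v₁ : K,
      v₀ * (l.1 1 0 * v₀ + l.1 1 1 * v₁) - v₁ * (l.1 0 0 * v₀ + l.1 0 1 * v₁) ≠ 0 := by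
    by_contra hno
    push Not at hno
    have a := hno 1 0
    have b := hno 0 1
    have c := hno 1 1
    refine one_ne_zero (α := K) ?_
    linear_combination c - a - b - ht + l.1 0 0 * h2
  obtain ⟨d, hdd⟩ := root_exists (v₀ * (l.1 1 0 * v₀ + l.1 1 1 * v₁) - v₁ * (l.1 0 0 * v₀ + l.1 0 1 * v₁))
  have hd0 : d ≠ 0 := fun h => hdet (by rw [← hdd, h, mul_zero])
  obtain ⟨P, hP⟩ : ∃ P : SL₂, P.1 = !![v₀ / d, (l.1 0 0 * v₀ + l.1 0 1 * v₁) / d;
      v₁ / d, (l.1 1 0 * v₀ + l.1 1 1 * v₁) / d] := by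
    refine ⟨⟨_, ?_⟩, rfl⟩
    rw [Matrix.det_fin_two]
    simp
    field_simp
    linear_combination -hdd
  refine ⟨P, ext2 ?_ ?_ ?_ ?_⟩ <;> simp only [mul00, mul01, mul10, mul11, hP, hcomp] <;> simp <;> field_simp
  · linear_combination (l.1 0 0 * v₀ + l.1 0 1 * v₁) * ht - v₀ * hd - v₀ * h2
  · linear_combination (l.1 1 0 * v₀ + l.1 1 1 * v₁) * ht - v₁ * hd - v₁ * h2

/-- the relation on natural modules -/
theorem natural_rel (l : SL₂) (hl : orderOf l = 3) (v : Fin 2 → K) :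
    l.1.mulVec (l.1.mulVec v) + l.1.mulVec v + v = 0 := by
  have h2 := two_K (K := K)
  have hd := CfsgLib.Qd.det2 l
  have ht := trace_of_order_three l hl
  funext i
  fin_cases i <;> simp [Matrix.mulVec, dotProduct, Fin.sum_univ_two, Matrix.mul_apply]
  · linear_combination (l.1 0 0 * v 0 + l.1 0 1 * v 1) * ht - v 0 * hd + (l.1 0 0 * v 0 + l.1 0 1 * v 1) * h2
  · linear_combination (l.1 1 0 * v 0 + l.1 1 1 * v 1) * ht - v 1 * hd + (l.1 1 0 * v 0 + l.1 1 1 * v 1) * h2

section bilinear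

variable {k k' : ℕ}

/-- the action on sums of natural modules -/
abbrev act (g : SL₂) (f : Fin k → Fin 2 → K) : Fin k → Fin 2 → K := fun i => g.1.mulVec (f i)

theorem biadd_eq_zero (C : (Fin k → Fin 2 → K) →+ (Fin k → Fin 2 → K) →+ (Fin k' → Fin 2 → K))
    (heq : ∀ g f f', C (act g f) (act g f') = act g (C f f')) (hsymm : ∀ f f', C f f' = C f' f)
    (hx : ∀ g : SL₂, orderOf g = 3 → ∀ f, C f (act g f) = 0) (hK : ∃ c : K, c ≠ 0 ∧ c ≠ 1) :
    C = 0 := by
  classical
  have h2 := two_K (K := K)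
  have hdouble : ∀ {n : ℕ} (f : Fin n → Fin 2 → K), f + f = 0 := fun f => by
    funext i j; show f i j + f i j = 0; linear_combination f i j * h2
  have hactadd : ∀ {n : ℕ} (g : SL₂) (f f' : Fin n → Fin 2 → K), act g (f + f') = act g f + act g f' :=
    fun g f f' => by funext i; exact Matrix.mulVec_add _ _ _
  have hrel : ∀ {n : ℕ} (g : SL₂), orderOf g = 3 → ∀ f : Fin n → Fin 2 → K,
      act g (act g f) = act g f + f := fun g hg f => by
    funext i
    have h := natural_rel g hg (f i)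
    show g.1.mulVec (g.1.mulVec (f i)) = g.1.mulVec (f i) + f i
    rw [add_assoc, add_eq_zero_iff_eq_neg] at h
    rw [h]
    funext j; simp [neg_K]
  have key : ∀ g : SL₂, orderOf g = 3 → ∀ u v, C u (act g v) = act g (act g (C u v)) := by
    intro g hg u v
    have h := hx g hg (u + v)
    rw [hactadd] at h
    simp only [map_add, AddMonoidHom.add_apply, hx g hg, zero_add, add_zero] at h
    obtain ⟨w, hw⟩ : ∃ w, w = C u (act g v) := ⟨_, rfl⟩
    have hvu : C v (act g u) = act g w + act g (C u v) := by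
      have e : v = act g (act g (act g v)) := by
        rw [hrel g hg v, hactadd, hrel g hg, add_comm (act g v) v, add_assoc, hdouble, add_zero]
      conv_lhs => rw [e]
      rw [heq, hsymm, hrel g hg, map_add, hactadd, ← hw]
    rw [hvu] at h
    rw [← hw] at h ⊢
    -- `w` is determined
    have h' : act g w + w = act g (C u v) := by
      have e : act g w + w + (act g (C u v)) = 0 := by
        rw [← h]; abel
      rw [add_eq_zero_iff_eq_neg] at e
      rw [e]
      funext i j; simp [neg_K]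
    rw [← hrel g hg w] at h'
    have h'' := congrArg (act g) h'
    rwa [hrel g hg (act g w), hrel g hg w, add_right_comm, hdouble, zero_add] at h''
  obtain ⟨top, htop⟩ : ∃ top : (Fin k → K) → (Fin k → Fin 2 → K), top = fun p i => ![p i, 0] := ⟨_, rfl⟩
  obtain ⟨bot, hbot⟩ : ∃ bot : (Fin k → K) → (Fin k → Fin 2 → K), bot = fun p i => ![0, p i] := ⟨_, rfl⟩
  have hfixtop : ∀ p r i, C (top p) (top r) i 1 = 0 := by
    intro p r i
    have e : ∀ p : Fin k → K, act (up (1 : K)) (top p) = top p := fun p => by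
      funext i j; fin_cases j <;> simp [htop, Matrix.mulVec, dotProduct, Fin.sum_univ_two]
    have h := congrFun (congrFun (heq (up (1 : K)) (top p) (top r)) i) 0
    rw [e, e] at h
    simp [act, Matrix.mulVec, dotProduct, Fin.sum_univ_two] at h
    exact h
  have hx3 : ∀ (a : K), a ≠ 0 → ∀ p r i, C (top p) (bot (fun j => a⁻¹ * r j)) i 0 = C (top p) (top r) i 0 ∧
      C (top p) (bot (fun j => a⁻¹ * r j)) i 1 = a⁻¹ * C (top p) (top r) i 0 := by
    intro a ha p r i
    obtain ⟨ho, hsq⟩ := order_three a ha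
    have e : act (up a * lo a⁻¹) (top r) = bot (fun j => a⁻¹ * r j) := by
      funext i j
      fin_cases j <;> simp [htop, hbot, Matrix.mulVec, dotProduct, Fin.sum_univ_two, Matrix.mul_apply] <;>
        field_simp <;>
        first | exact Or.inl (by linear_combination h2) | linear_combination r i * h2
    have h := key _ ho (top p) (top r)
    rw [e] at h
    rw [h, show act (up a * lo a⁻¹) (act (up a * lo a⁻¹) (C (top p) (top r))) =
      act (lo a⁻¹ * up a) (C (top p) (top r)) from by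
        funext i; show _ = (lo a⁻¹ * up a : SL₂).1.mulVec _
        rw [← hsq]; simp [Matrix.mulVec_mulVec]]
    constructor <;> simp [act, Matrix.mulVec, dotProduct, Fin.sum_univ_two, Matrix.mul_apply, hfixtop]
  obtain ⟨c, hc0, hc1⟩ := hK
  have htt : ∀ p r, C (top p) (top r) = 0 := by
    intro p r
    funext i j
    fin_cases j
    · show C (top p) (top r) i 0 = 0
      obtain ⟨a1, a2⟩ := hx3 c hc0 p (fun j => c * r j) i
      obtain ⟨b1, b2⟩ := hx3 1 one_ne_zero p r i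
      simp only [inv_mul_cancel_left₀ hc0] at a1 a2
      simp only [inv_one, one_mul] at b1 b2
      rw [b1] at a1
      rw [b2, ← a1] at a2
      by_contra hne
      refine hc1 (inv_eq_one.1 (mul_right_cancel₀ hne (a2.symm.trans (one_mul _).symm)))
    · exact hfixtop p r i
  have htb : ∀ p r, C (top p) (bot r) = 0 := by
    intro p r
    funext i j
    obtain ⟨b1, b2⟩ := hx3 1 one_ne_zero p r i
    simp only [inv_one, one_mul, htt] at b1 b2
    fin_cases j
    · exact b1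
    · exact b2
  have hbb : ∀ p r, C (bot p) (bot r) = 0 := by
    intro p r
    have e : ∀ p : Fin k → K, act (wel : SL₂) (top p) = bot p := fun p => by
      funext i j; fin_cases j <;> simp [htop, hbot, Matrix.mulVec, dotProduct, Fin.sum_univ_two, wel_coe]
    rw [← e, ← e, heq, htt]
    funext i; simp [act]
  refine AddMonoidHom.ext fun f => AddMonoidHom.ext fun f' => ?_
  have hdec : ∀ f : Fin k → Fin 2 → K, f = top (fun i => f i 0) + bot (fun i => f i 1) := fun f => by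
    funext i j; fin_cases j <;> simp [htop, hbot]
  rw [hdec f, hdec f']
  simp only [map_add, AddMonoidHom.add_apply, htt, htb, hbb, hsymm (bot _) (top _), add_zero,
    AddMonoidHom.zero_apply]

end bilinear

variable [Finite K]

/-- lifts of all elements of order three satisfy the relation of fixed-point-free action -/
def Fpf {G : Type u} [Group G] (Q : Subgroup G) [Q.Normal] (e : G ⧸ Q ≃* SL₂) : Prop :=
  ∀ l : SL₂, orderOf l = 3 → ∃ g : G, e (mk' Q g) = l ∧
    ∀ q ∈ Q, q * (g * q * g⁻¹) * (g * g * q * (g * g)⁻¹) = 1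

/-- a normal subgroup centralised by `Q` is a sum of natural modules -/
theorem natural_of_centralized {G : Type u} [Group G] [Finite G] (Q : Subgroup G) [Q.Normal]
    (hQ : IsPGroup 2 Q) (e : G ⧸ Q ≃* SL₂) (hfpf : Fpf Q e) (hK : ∃ c : K, c ≠ 0 ∧ c ≠ 1)
    (A : Subgroup G) [A.Normal] (hAQ : A ≤ Q) (hQA : Q ≤ Subgroup.centralizer (A : Set G)) :
    ∃ (k : ℕ) (φ : Multiplicative (Fin k → Fin 2 → K) ≃* A),
      ∀ (g : G) f, ((φ (Multiplicative.ofAdd (act (e (mk' Q g)) f))) : G) =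
        g * (φ (Multiplicative.ofAdd f) : G) * g⁻¹ := by
  classical
  letI : CommGroup A :=
    { (inferInstance : Group A) with
      mul_comm := fun a b => Subtype.ext ((Subgroup.mem_centralizer_iff.1 (hQA (hAQ b.2)) a a.2)) }
  obtain ⟨c, hc⟩ : ∃ c : G →* AddMonoid.End (Additive A),
      ∀ g a, ((Additive.toMul (c g a) : A) : G) = g * ((Additive.toMul a : A) : G) * g⁻¹ :=
    ⟨{ toFun := fun g => (MonoidHom.toAdditive (MulEquiv.toMonoidHom (MulAut.conjNormal g : MulAut A)) : AddMonoid.End (Additive A))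
       map_one' := AddMonoidHom.ext fun a : Additive A => congrArg Additive.ofMul
         (DFunLike.congr_fun (map_one (MulAut.conjNormal : G →* MulAut A)) (Additive.toMul a))
       map_mul' := fun g h => AddMonoidHom.ext fun a : Additive A => congrArg Additive.ofMul
         (DFunLike.congr_fun (map_mul (MulAut.conjNormal : G →* MulAut A) g h) (Additive.toMul a)) }, fun g a => MulAut.conjNormal_apply g (Additive.toMul a)⟩
  have hcQ : Q ≤ c.ker := fun q hq => MonoidHom.mem_ker.2 (DFunLike.ext _ _ fun a =>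
    Additive.toMul.injective (Subtype.ext (by
      rw [hc]
      show q * _ * q⁻¹ = _
      rw [← Subgroup.mem_centralizer_iff.1 (hQA hq) _ (Additive.toMul a).2, mul_inv_cancel_right]
      rfl)))
  obtain ⟨ρ, hρ⟩ : ∃ ρ : SL₂ →* AddMonoid.End (Additive A), ∀ g, ρ (e (mk' Q g)) = c g :=
    ⟨(QuotientGroup.lift Q c hcQ).comp e.symm.toMonoidHom, fun g => by simp⟩
  have h3 : ∀ l : SL₂, orderOf l = 3 → ∀ v, ρ l (ρ l v) + ρ l v + v = 0 := by
    intro l hl v
    obtain ⟨g, hgl, hg⟩ := hfpf l hl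
    rw [← hgl, hρ, add_comm, add_comm (c g (c g v))]
    refine Additive.toMul.injective (Subtype.ext ?_)
    rw [toMul_add, toMul_add, Subgroup.coe_mul, Subgroup.coe_mul, hc, hc, hc, toMul_zero, Subgroup.coe_one,
      ← hg _ (hAQ (Additive.toMul v).2)]
    group
  have hV : ∀ v : Additive A, ∃ k : ℕ, 2 ^ k • v = 0 := fun v => by
    obtain ⟨k, hk⟩ := (hQ.to_le hAQ) (Additive.toMul v)
    exact ⟨k, Additive.toMul.injective (by rw [toMul_nsmul, hk]; rfl)⟩
  obtain ⟨k, Φ, hΦ⟩ := exists_natural_equiv ρ h3 hK hV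
  refine ⟨k, Φ.toMultiplicativeLeft, fun g f => ?_⟩
  show ((Additive.toMul (Φ (act _ f)) : A) : G) = g * (Additive.toMul (Φ f) : A) * g⁻¹
  rw [← hc, ← hρ]
  exact congrArg (fun z : Additive A => ((Additive.toMul z : A) : G)) (hΦ _ f).symm

theorem sq_one_of_natural {G : Type u} [Group G] {A : Subgroup G} {k : ℕ}
    (φ : Multiplicative (Fin k → Fin 2 → K) ≃* A) (a : G) (ha : a ∈ A) : a * a = 1 := by
  obtain ⟨f, hf⟩ := φ.surjective ⟨a, ha⟩
  have h : φ f * φ f = 1 := by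
    rw [← map_mul, show f * f = 1 from ?_, map_one]
    refine Multiplicative.toAdd.injective ?_
    funext i j
    show Multiplicative.toAdd f i j + Multiplicative.toAdd f i j = 0
    linear_combination Multiplicative.toAdd f i j * two_K (K := K)
  rw [hf] at h
  exact congrArg Subtype.val h

/-- `Q` is commutative -/
theorem commute_of_fpf (hK : ∃ c : K, c ≠ 0 ∧ c ≠ 1) :
    ∀ (N : ℕ) {G : Type u} [Group G] [Finite G] (Q : Subgroup G) [Q.Normal], Nat.card Q ≤ N →
      IsPGroup 2 Q → ∀ e : G ⧸ Q ≃* SL₂, Fpf Q e → ∀ a ∈ Q, ∀ b ∈ Q, a * b = b * a := by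
  intro N
  induction N with
  | zero =>
    intro G _ _ Q _ hN _ e _
    exact absurd hN (Nat.not_le.2 Nat.card_pos)
  | succ N ih =>
    intro G _ _ Q _ hN hQ e hfpf
    classical
    rcases subsingleton_or_nontrivial Q with hs | hs
    · intro a ha b hb
      rw [show a = b from congrArg Subtype.val (hs.elim ⟨a, ha⟩ ⟨b, hb⟩)]
    haveI : Fact (Nat.Prime 2) := ⟨Nat.prime_two⟩
    obtain ⟨Z, hZ⟩ : ∃ Z : Subgroup G, Z = (Subgroup.center Q).map Q.subtype := ⟨_, rfl⟩
    haveI hZn : Z.Normal := hZ ▸ inferInstance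
    have hZQ : Z ≤ Q := hZ ▸ Subgroup.map_subtype_le _
    have hmemZ : ∀ z, z ∈ Z ↔ z ∈ Q ∧ ∀ q ∈ Q, q * z = z * q := by
      intro z
      rw [hZ, Subgroup.mem_map]
      constructor
      · rintro ⟨w, hw, rfl⟩
        exact ⟨w.2, fun q hq => congrArg Subtype.val (Subgroup.mem_center_iff.1 hw ⟨q, hq⟩)⟩
      · rintro ⟨hz, hc⟩
        exact ⟨⟨z, hz⟩, Subgroup.mem_center_iff.2 fun q => Subtype.ext (hc q q.2), rfl⟩
    have hQZ : Q ≤ Subgroup.centralizer (Z : Set G) := fun q hq =>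
      Subgroup.mem_centralizer_iff.2 fun z hz => (((hmemZ z).1 hz).2 q hq).symm
    -- the quotient by the centre
    obtain ⟨Q', hQ'⟩ : ∃ Q' : Subgroup (G ⧸ Z), Q' = Q.map (mk' Z) := ⟨_, rfl⟩
    haveI : (Q.map (mk' Z)).Normal := Subgroup.Normal.map ‹Q.Normal› _ (QuotientGroup.mk'_surjective Z)
    haveI : Q'.Normal := hQ' ▸ inferInstance
    have hQ'p : IsPGroup 2 Q' := hQ' ▸ hQ.map _
    haveI := hQ.center_nontrivial
    have hcard : Nat.card Q' ≤ N := by
      have h1 : Nat.card Q' * Nat.card Z = Nat.card Q := by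
        have h := Subgroup.card_mul_index ((mk' Z).subgroupMap Q).ker
        have e1 : Nat.card ((mk' Z).subgroupMap Q).ker = Nat.card Z := by
          refine Nat.card_congr ⟨fun x => ⟨(x : Q), (QuotientGroup.eq_one_iff _).1 (congrArg Subtype.val x.2)⟩,
            fun z => ⟨⟨z, hZQ z.2⟩, Subtype.ext ((QuotientGroup.eq_one_iff _).2 z.2)⟩,
            fun x => rfl, fun z => rfl⟩
        rw [Subgroup.index_ker, MonoidHom.range_eq_top.2 ((mk' Z).subgroupMap_surjective Q),
          Subgroup.card_top, e1, mul_comm, ← hQ'] at h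
        exact h
      have h2 : 2 ≤ Nat.card Z := by
        rw [hZ, Nat.card_congr ((Subgroup.center Q).equivMapOfInjective _ Q.subtype_injective).toEquiv.symm]
        exact Finite.one_lt_card
      have h3 : 0 < Nat.card Q' := Nat.card_pos
      nlinarith
    obtain ⟨e', he'⟩ : ∃ e' : (G ⧸ Z) ⧸ Q' ≃* SL₂, ∀ g, e' (mk' Q' (mk' Z g)) = e (mk' Q g) := by
      subst hQ'
      exact ⟨(QuotientGroup.quotientQuotientEquivQuotient Z Q hZQ).trans e, fun g => rfl⟩
    have hfpf' : Fpf Q' e' := by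
      intro l hl
      obtain ⟨g, hgl, hg⟩ := hfpf l hl
      refine ⟨mk' Z g, (he' g).trans hgl, fun q hq => ?_⟩
      rw [hQ'] at hq
      obtain ⟨q₀, hq₀, rfl⟩ := Subgroup.mem_map.1 hq
      simp only [← map_mul, ← map_inv]
      rw [hg q₀ hq₀, map_one]
    have hcomm' := ih Q' hcard hQ'p e' hfpf'
    obtain ⟨k, φ, hφ⟩ := natural_of_centralized Q' hQ'p e' hfpf' hK Q' le_rfl
      (fun a ha => Subgroup.mem_centralizer_iff.2 fun b hb => hcomm' b hb a ha)
    obtain ⟨k', ψ, hψ⟩ := natural_of_centralized Q hQ e hfpf hK Z hZQ hQZ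
    have hZsq : ∀ z ∈ Z, z * z = 1 := sq_one_of_natural ψ
    have hmk : ∀ {a : G}, a ∈ Q → mk' Z a ∈ Q' := fun ha => hQ' ▸ Subgroup.mem_map_of_mem _ ha
    have hcommZ : ∀ a ∈ Q, ∀ b ∈ Q, a * b * a⁻¹ * b⁻¹ ∈ Z := by
      intro a ha b hb
      rw [← QuotientGroup.eq_one_iff]
      show mk' Z (a * b * a⁻¹ * b⁻¹) = 1
      simp only [map_mul, map_inv, hcomm' _ (hmk ha) _ (hmk hb)]
      group
    -- the pairing
    have hwd : ∀ a ∈ Q, ∀ b ∈ Q, ∀ z ∈ Z,
        (a * z) * b * (a * z)⁻¹ * b⁻¹ = a * b * a⁻¹ * b⁻¹ ∧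
          a * (b * z) * a⁻¹ * (b * z)⁻¹ = a * b * a⁻¹ * b⁻¹ := by
      intro a ha b hb z hz
      obtain ⟨-, hzc⟩ := (hmemZ z).1 hz
      constructor
      · rw [show a * z * b * (a * z)⁻¹ * b⁻¹ = a * (z * b) * z⁻¹ * a⁻¹ * b⁻¹ by group, ← hzc b hb]
        group
      · rw [show a * (b * z) * a⁻¹ * (b * z)⁻¹ = a * b * (z * a⁻¹) * z⁻¹ * b⁻¹ by group,
          ← hzc a⁻¹ (inv_mem ha)]
        group
    have hlift : ∀ f : Fin k → Fin 2 → K, ∃ a ∈ Q, mk' Z a = (φ (Multiplicative.ofAdd f) : G ⧸ Z) := by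
      intro f
      have h : (φ (Multiplicative.ofAdd f) : G ⧸ Z) ∈ Q.map (mk' Z) := hQ' ▸ (φ _).2
      exact Subgroup.mem_map.1 h
    choose L hLQ hL using hlift
    have hsame : ∀ {f : Fin k → Fin 2 → K} {a : G}, mk' Z a = (φ (Multiplicative.ofAdd f) : G ⧸ Z) →
        ∃ z ∈ Z, a = L f * z := fun {f a} h =>
      ⟨(L f)⁻¹ * a, QuotientGroup.eq.1 ((hL f).trans h.symm), by group⟩
    obtain ⟨cm, hcm⟩ : ∃ cm : (Fin k → Fin 2 → K) → (Fin k → Fin 2 → K) → (Fin k' → Fin 2 → K),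
        ∀ f f', ((ψ (Multiplicative.ofAdd (cm f f')) : G)) = L f * L f' * (L f)⁻¹ * (L f')⁻¹ :=
      ⟨fun f f' => Multiplicative.toAdd (ψ.symm ⟨_, hcommZ _ (hLQ f) _ (hLQ f')⟩), fun f f' => by simp⟩
    have hψi : ∀ {x y : Fin k' → Fin 2 → K}, (ψ (Multiplicative.ofAdd x) : G) = ψ (Multiplicative.ofAdd y) →
        x = y := fun h => Multiplicative.ofAdd.injective (ψ.injective (Subtype.ext h))
    have hval : ∀ {f f' a b}, mk' Z a = (φ (Multiplicative.ofAdd f) : G ⧸ Z) →
        mk' Z b = (φ (Multiplicative.ofAdd f') : G ⧸ Z) →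
        (ψ (Multiplicative.ofAdd (cm f f')) : G) = a * b * a⁻¹ * b⁻¹ := by
      intro f f' a b ha hb
      obtain ⟨z, hz, rfl⟩ := hsame ha
      obtain ⟨z', hz', rfl⟩ := hsame hb
      rw [hcm, (hwd _ (hLQ f) _ (Q.mul_mem (hLQ f') (hZQ hz')) z hz).1, (hwd _ (hLQ f) _ (hLQ f') z' hz').2]
    have hmul : ∀ f g : Fin k → Fin 2 → K,
        mk' Z (L f * L g) = (φ (Multiplicative.ofAdd (f + g)) : G ⧸ Z) := fun f g => by
      rw [map_mul, hL, hL, ofAdd_add, map_mul, Subgroup.coe_mul]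
    have hadd_left : ∀ f g f', cm (f + g) f' = cm f f' + cm g f' := by
      intro f g f'
      refine hψi ?_
      rw [ofAdd_add, map_mul, Subgroup.coe_mul, hval (hmul f g) (hL f'), hcm, hcm]
      have hz := ((hmemZ _).1 (hcommZ _ (hLQ g) _ (hLQ f'))).2 (L f) (hLQ f)
      have hz' := ((hmemZ _).1 (hcommZ _ (hLQ g) _ (hLQ f'))).2 _
        (hZQ (hcommZ _ (hLQ f) _ (hLQ f')))
      obtain ⟨z, hzd⟩ : ∃ z, z = L g * L f' * (L g)⁻¹ * (L f')⁻¹ := ⟨_, rfl⟩
      rw [← hzd] at hz hz' ⊢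
      rw [hz']
      rw [show L f * L g * L f' * (L f * L g)⁻¹ * (L f')⁻¹ = L f * z * L f' * (L f)⁻¹ * (L f')⁻¹ by
        rw [hzd]; group, hz]
      group
    have hsymm : ∀ f f', cm f f' = cm f' f := by
      intro f f'
      refine hψi ?_
      rw [hcm, hcm, show L f' * L f * (L f')⁻¹ * (L f)⁻¹ = (L f * L f' * (L f)⁻¹ * (L f')⁻¹)⁻¹ by group]
      exact eq_inv_of_mul_eq_one_left (hZsq _ (hcommZ _ (hLQ f) _ (hLQ f')))
    obtain ⟨C, hC⟩ : ∃ C : (Fin k → Fin 2 → K) →+ (Fin k → Fin 2 → K) →+ (Fin k' → Fin 2 → K),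
        ∀ f f', C f f' = cm f f' :=
      ⟨AddMonoidHom.mk' (fun f => AddMonoidHom.mk' (cm f) fun a b => by
          rw [hsymm, hadd_left, hsymm a, hsymm b]) fun a b => AddMonoidHom.ext fun c => hadd_left a b c,
        fun f f' => rfl⟩
    have hC0 : C = 0 := by
      refine biadd_eq_zero C (fun l f f' => ?_) (fun f f' => by rw [hC, hC, hsymm]) (fun l hl f => ?_) hK
      · obtain ⟨g, rfl⟩ : ∃ g, e (mk' Q g) = l := by
          obtain ⟨g, hg⟩ := QuotientGroup.mk'_surjective Q (e.symm l)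
          exact ⟨g, by rw [hg, MulEquiv.apply_symm_apply]⟩
        rw [hC, hC]
        refine hψi ?_
        have hg : ∀ f, mk' Z (g * L f * g⁻¹) =
            (φ (Multiplicative.ofAdd (act (e (mk' Q g)) f)) : G ⧸ Z) := fun f => by
          rw [← he', hφ, map_mul, map_mul, map_inv, hL]
        rw [hval (hg f) (hg f'), hψ, hcm]
        group
      · obtain ⟨g, hgl, hg⟩ := hfpf l hl
        rw [hC]
        refine hψi ?_
        have hgm : mk' Z (g * L f * g⁻¹) = (φ (Multiplicative.ofAdd (act l f)) : G ⧸ Z) := by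
          rw [← hgl, ← he', hφ, map_mul, map_mul, map_inv, hL]
        rw [hval (hL f) hgm, ofAdd_zero, map_one, Subgroup.coe_one]
        have h1 := hg _ (hLQ f)
        have h7 := hg _ (inv_mem (hLQ f))
        obtain ⟨x, hx⟩ : ∃ x, x = g * L f * g⁻¹ := ⟨_, rfl⟩
        obtain ⟨y, hy⟩ : ∃ y, y = g * g * L f * (g * g)⁻¹ := ⟨_, rfl⟩
        rw [show g * (L f)⁻¹ * g⁻¹ = x⁻¹ by rw [hx]; group,
          show g * g * (L f)⁻¹ * (g * g)⁻¹ = y⁻¹ by rw [hy]; simp [mul_assoc]] at h7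
        rw [← hx, ← hy] at h1
        have hy' : y = (L f * x)⁻¹ := eq_inv_of_mul_eq_one_right h1
        rw [hy', inv_inv] at h7
        have hba : L f * x = x * L f := by
          calc L f * x = x * L f * ((L f)⁻¹ * x⁻¹ * (L f * x)) := by group
            _ = x * L f := by rw [h7, mul_one]
        rw [← hx]
        rw [hba]
        group
    intro a ha b hb
    obtain ⟨f, hf⟩ := φ.surjective ⟨_, hmk ha⟩
    obtain ⟨f', hf'⟩ := φ.surjective ⟨_, hmk hb⟩
    have h := hval (f := Multiplicative.toAdd f) (f' := Multiplicative.toAdd f') (a := a) (b := b)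
      (congrArg Subtype.val hf).symm (congrArg Subtype.val hf').symm
    rw [← hC, hC0] at h
    simp only [AddMonoidHom.zero_apply, ofAdd_zero, map_one, Subgroup.coe_one] at h
    exact mul_inv_eq_iff_eq_mul.1 (mul_inv_eq_one.1 h.symm)

/-- fixed-point-free action of one lift gives the relation for all -/
theorem fpf_of_element {G : Type u} [Group G] [Finite G] (Q : Subgroup G) [Q.Normal] (hQ : IsPGroup 2 Q)
    (e : G ⧸ Q ≃* SL₂) (x : G) (hx : orderOf x = 3) (hfpf : ∀ q ∈ Q, x * q * x⁻¹ = q → q = 1) :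
    Fpf Q e := by
  haveI : Fact (Nat.Prime 3) := ⟨Nat.prime_three⟩
  have hx3 : x * x * x = 1 := by rw [← pow_two, ← pow_succ, show 2 + 1 = orderOf x from hx.symm, pow_orderOf_eq_one]
  have ho : orderOf (e (mk' Q x)) = 3 := by
    refine orderOf_eq_prime (by rw [← map_pow, ← map_pow, ← hx, pow_orderOf_eq_one, map_one, map_one]) fun h => ?_
    rw [← map_one e] at h
    obtain ⟨i, hi⟩ := hQ ⟨x, (QuotientGroup.eq_one_iff x).1 (e.injective h)⟩
    have h1 := orderOf_dvd_of_pow_eq_one (congrArg Subtype.val hi : x ^ 2 ^ i = 1)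
    rw [hx] at h1
    exact absurd ((Nat.prime_dvd_prime_iff_eq Nat.prime_three Nat.prime_two).1
      (Nat.prime_three.dvd_of_dvd_pow h1)) (by norm_num)
  have hrel : ∀ q ∈ Q, q * (x * q * x⁻¹) * (x * x * q * (x * x)⁻¹) = 1 := by
    intro q hq
    obtain ⟨f, hf⟩ : ∃ f : Q → Q, ∀ r, (f r : G) = (r : G)⁻¹ * (x * r * x⁻¹) :=
      ⟨fun r => ⟨_, Q.mul_mem (Q.inv_mem r.2) ((inferInstance : Q.Normal).conj_mem _ r.2 x)⟩, fun r => rfl⟩
    have hinj : Function.Injective f := by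
      intro r s h
      have h1 : (r : G)⁻¹ * (x * r * x⁻¹) = (s : G)⁻¹ * (x * s * x⁻¹) := by rw [← hf, ← hf, h]
      have h2 : x * ((r : G) * (s : G)⁻¹) * x⁻¹ = (r : G) * (s : G)⁻¹ := by
        have h3 : (r : G) * ((r : G)⁻¹ * (x * r * x⁻¹)) * (x * s * x⁻¹)⁻¹ =
            (r : G) * ((s : G)⁻¹ * (x * s * x⁻¹)) * (x * s * x⁻¹)⁻¹ := by rw [h1]
        calc x * ((r : G) * (s : G)⁻¹) * x⁻¹
            = (r : G) * ((r : G)⁻¹ * (x * r * x⁻¹)) * (x * s * x⁻¹)⁻¹ := by group
          _ = _ := by rw [h3]; group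
      exact Subtype.ext (mul_inv_eq_one.1 (hfpf _ (Q.mul_mem r.2 (Q.inv_mem s.2)) h2))
    obtain ⟨r, hr⟩ := Finite.injective_iff_surjective.1 hinj ⟨q, hq⟩
    have hq' : q = (r : G)⁻¹ * (x * r * x⁻¹) := by rw [← hf, hr]
    calc q * (x * q * x⁻¹) * (x * x * q * (x * x)⁻¹)
        = (r : G)⁻¹ * (x * x * x) * r * (x * x * x)⁻¹ := by rw [hq']; group
      _ = 1 := by rw [hx3]; group
  intro l hl
  obtain ⟨k, hk⟩ := conj_of_order_three _ l ho hl
  obtain ⟨c, hc⟩ := QuotientGroup.mk'_surjective Q (e.symm k)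
  refine ⟨c * x * c⁻¹, ?_, fun q hq => ?_⟩
  · simp only [map_mul, map_inv, hc, MulEquiv.apply_symm_apply, hk]
  · have h := hrel (c⁻¹ * q * c) (by simpa using (inferInstance : Q.Normal).conj_mem _ hq c⁻¹)
    calc q * (c * x * c⁻¹ * q * (c * x * c⁻¹)⁻¹) *
          (c * x * c⁻¹ * (c * x * c⁻¹) * q * (c * x * c⁻¹ * (c * x * c⁻¹))⁻¹)
        = c * (c⁻¹ * q * c * (x * (c⁻¹ * q * c) * x⁻¹) * (x * x * (c⁻¹ * q * c) * (x * x)⁻¹)) * c⁻¹ := by
          group
      _ = 1 := by rw [h]; group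

end CfsgLib.SLTwoFpf
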