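import Cfsg.Agent.Lib.Qd.Elementary

/-!
# Irreducible modules of `SL₂(q)` in the natural characteristic that are quadratic or small are natural
-/

set_option autoImplicit false
set_option linter.style.haveILetI false
set_option linter.unusedSectionVars false

namespace CfsgLib.SLTwoQuad

open CfsgLib.Qd (up lo ext2 mul00 mul01 mul10 mul11)

variable {F : Type*} [Field F]

local notation "SL₂" => Matrix.SpecialLinearGroup (Fin 2) F

/-- the Weyl element -/
def wel : SL₂ := ⟨!![0, 1; -1, 0], by simp [Matrix.det_fin_two]⟩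

/-- the torus -/
def tor (u : Fˣ) : SL₂ := ⟨!![(u : F), 0; 0, (↑u⁻¹ : F)], by simp [Matrix.det_fin_two]⟩

theorem wel_coe : (wel (F := F)).1 = !![0, 1; -1, 0] := rfl

theorem tor_coe (u : Fˣ) : (tor u).1 = !![(u : F), 0; 0, (↑u⁻¹ : F)] := rfl

theorem tor_mul (u v : Fˣ) : tor (u * v) = tor u * tor v := by
  apply ext2 <;> simp [mul00, mul01, mul10, mul11, tor_coe, mul_comm]

theorem tor_one : tor (1 : Fˣ) = 1 := by
  apply ext2 <;> simp [tor_coe]

theorem wel_wel : (wel : SL₂) * wel = tor (-1) := by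
  apply ext2 <;> simp [mul00, mul01, mul10, mul11, wel_coe, tor_coe]

theorem wel_tor (u : Fˣ) : (wel : SL₂) * tor u = tor u⁻¹ * wel := by
  apply ext2 <;> simp [mul00, mul01, mul10, mul11, wel_coe, tor_coe]

theorem lo_eq (c : F) : lo c = (wel : SL₂) * up (-c) * wel⁻¹ := by
  rw [eq_mul_inv_iff_mul_eq]
  apply ext2 <;> simp [mul00, mul01, mul10, mul11, wel_coe]

theorem up_tor (u : Fˣ) (a : F) : up a * tor u = tor u * up ((↑u⁻¹ : F) * (↑u⁻¹ : F) * a) := by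
  apply ext2 <;> simp [mul00, mul01, mul10, mul11, tor_coe] <;> field_simp

theorem lo_wel (c : F) : lo c * (wel : SL₂) = wel * up (-c) := by
  rw [lo_eq, inv_mul_cancel_right]

theorem up_lo_up (u : Fˣ) : up (↑u⁻¹ : F) * lo (-(u : F)) * up (↑u⁻¹ : F) = (wel : SL₂) * tor u := by
  apply ext2 <;> simp [mul00, mul01, mul10, mul11, tor_coe, wel_coe]

theorem eq_top_of_up_wel (H : Subgroup SL₂) (hu : ∀ a, up a ∈ H) (hw : wel ∈ H) : H = ⊤ := by
  have hl : ∀ c, lo c ∈ H := fun c => by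
    rw [lo_eq]; exact H.mul_mem (H.mul_mem hw (hu _)) (H.inv_mem hw)
  have key : ∀ g : SL₂, g.1 1 0 ≠ 0 → g ∈ H := by
    intro g hg
    have e : g = up ((g.1 0 0 - 1) / g.1 1 0) * lo (g.1 1 0) * up ((g.1 1 1 - 1) / g.1 1 0) := by
      have hd := CfsgLib.Qd.det2 g
      apply ext2 <;> simp [mul00, mul01, mul10, mul11] <;> field_simp
      · ring
      · linear_combination -hd
      · ring
    rw [e]
    exact H.mul_mem (H.mul_mem (hu _) (hl _)) (hu _)
  refine Subgroup.eq_top_iff' H |>.2 fun g => ?_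
  by_cases hg : g.1 1 0 = 0
  · have h1 : lo 1 * g ∈ H := key _ (by
      simp only [mul10, CfsgLib.Qd.lo_coe, Matrix.of_apply, Matrix.cons_val', Matrix.cons_val_zero,
        Matrix.cons_val_one, Matrix.empty_val', Matrix.cons_val_fin_one, hg, one_mul, mul_zero, add_zero]
      intro h0
      have hd := CfsgLib.Qd.det2 g
      rw [h0, hg] at hd
      simp at hd)
    simpa using H.mul_mem (H.inv_mem (hl 1)) h1
  · exact key g hg

variable {V : Type*} [AddCommGroup V] (ρ : Matrix.SpecialLinearGroup (Fin 2) F →* AddMonoid.End V)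

theorem rho_mul (g h : SL₂) (v : V) : ρ (g * h) v = ρ g (ρ h v) := by
  rw [map_mul]; rfl

theorem rho_one (v : V) : ρ 1 v = v := by rw [map_one]; rfl

theorem rho_injective (g : SL₂) : Function.Injective (ρ g) := fun x y h => by
  rw [← rho_one ρ x, ← rho_one ρ y, ← inv_mul_cancel g, rho_mul, rho_mul, h]

/-- fixed points of the upper unipotent group -/
def fixU : AddSubgroup V where
  carrier := {v | ∀ a : F, ρ (up a) v = v}
  add_mem' {x y} hx hy := fun a => by rw [map_add, hx, hy]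
  zero_mem' := fun a => map_zero _
  neg_mem' {x} hx := fun a => by rw [map_neg, hx]

theorem tor_mem {v : V} (hv : v ∈ fixU ρ) (u : Fˣ) : ρ (tor u) v ∈ fixU ρ := fun a => by
  rw [← rho_mul, up_tor, rho_mul, hv]

theorem lo_wel_fix {v : V} (hv : v ∈ fixU ρ) (c : F) : ρ (lo c) (ρ wel v) = ρ wel v := by
  rw [← rho_mul, lo_wel, rho_mul, hv]

theorem wel_wel_apply (v : V) : ρ wel (ρ wel v) = ρ (tor (-1)) v := by
  rw [← rho_mul, wel_wel]

/-- irreducibility -/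
def Irred : Prop :=
  ∀ Y : AddSubgroup V, (∀ g, ∀ v ∈ Y, ρ g v ∈ Y) → Y = ⊥ ∨ Y = ⊤

/-- non-triviality -/
def Nontriv : Prop := ∃ g v, ρ g v ≠ v

variable (hirr : Irred ρ) (hnt : Nontriv ρ) [Finite F]
include hirr hnt

/-- there are no fixed points -/
theorem eq_zero_of_fixed {v : V} (h : v ∈ fixU ρ) (h' : ∀ c : F, ρ (lo c) v = v) : v = 0 := by
  obtain ⟨Y, hY⟩ : ∃ Y : AddSubgroup V, ∀ x, x ∈ Y ↔ ∀ g, ρ g x = x :=
    ⟨{ carrier := {x | ∀ g, ρ g x = x}
       add_mem' := fun {x y} hx hy g => by rw [map_add, hx, hy]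
       zero_mem' := fun g => map_zero _
       neg_mem' := fun {x} hx g => by rw [map_neg, hx] }, fun x => Iff.rfl⟩
  have hvY : v ∈ Y := by
    refine (hY v).2 fun g => ?_
    obtain ⟨H, hH⟩ : ∃ H : Subgroup SL₂, ∀ g, g ∈ H ↔ ρ g v = v :=
      ⟨{ carrier := {g | ρ g v = v}
         mul_mem' := fun {a b} ha hb => by
           show ρ (a * b) v = v
           rw [rho_mul, show ρ b v = v from hb, show ρ a v = v from ha]
         one_mem' := rho_one ρ v
         inv_mem' := fun {a} ha => by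
           show ρ a⁻¹ v = v
           conv_lhs => rw [← show ρ a v = v from ha]
           rw [← rho_mul, inv_mul_cancel, rho_one] }, fun g => Iff.rfl⟩
    refine (hH g).1 ?_
    have hw : (wel : SL₂) = up 1 * lo (-1) * up 1 := by
      apply ext2 <;> simp [mul00, mul01, mul10, mul11, wel_coe]
    rw [eq_top_of_up_wel H (fun a => (hH _).2 (h a)) (hw ▸
      H.mul_mem (H.mul_mem ((hH _).2 (h 1)) ((hH _).2 (h' (-1)))) ((hH _).2 (h 1)))]
    trivial
  rcases hirr Y (fun g x hx => ((hY x).1 hx g).symm ▸ hx) with e | e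
  · exact (AddSubgroup.mem_bot).1 (e ▸ hvY)
  · obtain ⟨g, x, hgx⟩ := hnt
    exact absurd ((hY x).1 (e ▸ AddSubgroup.mem_top x) g) hgx

/-- an element of both fixed point spaces is zero -/
theorem eq_zero_of_both {x y : V} (hx : x ∈ fixU ρ) (hy : y ∈ fixU ρ) (h : x = ρ wel y) : x = 0 :=
  eq_zero_of_fixed ρ hirr hnt hx fun c => by rw [h, lo_wel_fix ρ hy]

theorem invariant_of_gen (Y : AddSubgroup V) [Finite V] (hu : ∀ a : F, ∀ v ∈ Y, ρ (up a) v ∈ Y)
    (hw : ∀ v ∈ Y, ρ wel v ∈ Y) (g : SL₂) : ∀ v ∈ Y, ρ g v ∈ Y := by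
  obtain ⟨H, hH⟩ : ∃ H : Submonoid SL₂, ∀ g, g ∈ H ↔ ∀ v ∈ Y, ρ g v ∈ Y :=
    ⟨{ carrier := {g | ∀ v ∈ Y, ρ g v ∈ Y}
       mul_mem' := fun {a b} ha hb v hv => by rw [rho_mul]; exact ha _ (hb _ hv)
       one_mem' := fun v hv => by rw [rho_one]; exact hv }, fun g => Iff.rfl⟩
  have hle : Subgroup.closure (Set.range (up (k := F)) ∪ {wel}) = ⊤ :=
    eq_top_of_up_wel _ (fun a => Subgroup.subset_closure (Or.inl ⟨a, rfl⟩))
      (Subgroup.subset_closure (Or.inr rfl))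
  have h : g ∈ Submonoid.closure (Set.range (up (k := F)) ∪ {wel}) := by
    rw [← Subgroup.closure_toSubmonoid_of_finite, hle]; trivial
  refine (hH g).1 (Submonoid.closure_le.2 ?_ h)
  rintro x (⟨a, rfl⟩ | rfl)
  · exact (hH _).2 (hu a)
  · exact (hH _).2 hw

/-- quadratic action -/
def Quad : Prop := ∀ (a : F) (v : V), ρ (up a) v - v ∈ fixU ρ

variable [DecidableEq F]

/-- scalar multiplication -/
def sc (b : F) (v : V) : V := if hb : b = 0 then 0 else ρ (tor (Units.mk0 b hb)) v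

omit hirr hnt in
theorem sc_zero (v : V) : sc ρ 0 v = 0 := dif_pos rfl

omit hirr hnt in
theorem sc_ne {b : F} (hb : b ≠ 0) (v : V) : sc ρ b v = ρ (tor (Units.mk0 b hb)) v := dif_neg hb

omit hirr hnt in
theorem sc_mem {v : V} (hv : v ∈ fixU ρ) (b : F) : sc ρ b v ∈ fixU ρ := by
  unfold sc
  split_ifs
  · exact zero_mem _
  · exact tor_mem ρ hv _

omit hirr hnt in
theorem sc_one (v : V) : sc ρ 1 v = v := by
  rw [sc_ne ρ one_ne_zero, Units.mk0_one, tor_one, rho_one]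

omit hirr hnt in
theorem sc_mul (b c : F) (v : V) : sc ρ (b * c) v = sc ρ b (sc ρ c v) := by
  rcases eq_or_ne b 0 with rfl | hb
  · rw [zero_mul, sc_zero, sc_zero]
  rcases eq_or_ne c 0 with rfl | hc
  · rw [mul_zero, sc_zero, sc_ne ρ hb, map_zero]
  rw [sc_ne ρ hb, sc_ne ρ hc, sc_ne ρ (mul_ne_zero hb hc), ← rho_mul, ← tor_mul]
  congr 3
  exact Units.ext rfl

variable (hq : Quad ρ)
include hq

theorem lo_fix {v : V} (hv : v ∈ fixU ρ) (b : F) : ρ (lo (-b)) v = v + ρ wel (sc ρ b v) := by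
  rcases eq_or_ne b 0 with rfl | hb
  · rw [neg_zero, CfsgLib.Qd.lo_zero, rho_one, sc_zero, map_zero, add_zero]
  obtain ⟨u, hu⟩ : ∃ u, u = ρ (lo (-b)) v := ⟨_, rfl⟩
  have e : ρ (up b⁻¹) u = ρ wel (sc ρ b v) := by
    have e := up_lo_up (Units.mk0 b hb)
    rw [Units.val_inv_eq_inv_val, Units.val_mk0] at e
    rw [hu, sc_ne ρ hb, ← rho_mul, ← rho_mul, ← e, rho_mul ρ _ (up b⁻¹), hv]
  -- the lower group acts quadratically
  have hlo : ∀ c : F, ρ (lo c) (u - v) = u - v := by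
    intro c
    have h := hq b (ρ wel⁻¹ v) (-c)
    have e1 : u - v = ρ wel (ρ (up b) (ρ wel⁻¹ v) - ρ wel⁻¹ v) := by
      rw [map_sub, hu, lo_eq, neg_neg, rho_mul, rho_mul]
      congr 1
      rw [← rho_mul, mul_inv_cancel, rho_one]
    rw [e1, ← rho_mul, lo_wel, rho_mul, h]
  have hA : ρ (up b⁻¹) (u - v) - (u - v) ∈ fixU ρ := hq _ _
  rw [map_sub, e, hv] at hA
  have h0 : ρ wel (sc ρ b v) - (u - v) = 0 := by
    refine eq_zero_of_fixed ρ hirr hnt ?_ fun c => ?_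
    · have := add_mem hA hv
      rwa [show ρ wel (sc ρ b v) - v - (u - v) + v = ρ wel (sc ρ b v) - (u - v) by abel] at this
    · rw [map_sub, lo_wel_fix ρ (sc_mem ρ hv b), hlo]
  rw [sub_eq_zero] at h0
  rw [← hu, h0]; abel

theorem sc_add {v : V} (hv : v ∈ fixU ρ) (b c : F) : sc ρ (b + c) v = sc ρ b v + sc ρ c v := by
  refine rho_injective ρ wel (add_left_cancel (a := v) ?_)
  rw [← lo_fix ρ hirr hnt hq hv, neg_add, ← CfsgLib.Qd.lo_mul, rho_mul, lo_fix ρ hirr hnt hq hv c, map_add,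
    map_add, lo_fix ρ hirr hnt hq hv b, lo_wel_fix ρ (sc_mem ρ hv c), add_assoc]

theorem up_wel {v : V} (hv : v ∈ fixU ρ) (a : F) :
    ρ (up a) (ρ wel v) = ρ wel v - sc ρ a v := by
  rcases eq_or_ne a 0 with rfl | ha
  · rw [CfsgLib.Qd.up_zero, rho_one, sc_zero, sub_zero]
  have hw : sc ρ a v ∈ fixU ρ := sc_mem ρ hv a
  have h1 := lo_fix ρ hirr hnt hq hw a⁻¹
  rw [← sc_mul, inv_mul_cancel₀ ha, sc_one] at h1
  have h2 : ρ (up a) (ρ (lo (-a⁻¹)) (sc ρ a v)) = ρ wel v := by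
    have e := up_lo_up (Units.mk0 a⁻¹ (inv_ne_zero ha))
    rw [Units.val_inv_eq_inv_val, Units.val_mk0, inv_inv] at e
    have e2 : ρ (up a * lo (-a⁻¹) * up a) (sc ρ a v) = ρ wel (sc ρ a⁻¹ (sc ρ a v)) := by
      rw [e, rho_mul, ← sc_ne ρ (inv_ne_zero ha)]
    rw [rho_mul, hw, rho_mul, ← sc_mul, inv_mul_cancel₀ ha, sc_one] at e2
    exact e2
  rw [h1, map_add, hw] at h2
  exact eq_sub_of_add_eq' h2

/-- a quadratic irreducible module is natural -/
theorem natural [Finite V] {e : V} (he : e ∈ fixU ρ) (he0 : e ≠ 0) :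
    ∃ Φ : (Fin 2 → F) ≃+ V, ∀ g f, ρ g (Φ f) = Φ (g.1.mulVec f) := by
  obtain ⟨Φ₀, hΦ⟩ : ∃ Φ₀ : (Fin 2 → F) →+ V,
      ∀ f, Φ₀ f = sc ρ (f 0) e + ρ wel (sc ρ (-f 1) e) :=
    ⟨AddMonoidHom.mk' (fun f => sc ρ (f 0) e + ρ wel (sc ρ (-f 1) e)) fun f g => by
      show sc ρ (f 0 + g 0) e + ρ wel (sc ρ (-(f 1 + g 1)) e) = _
      rw [neg_add, sc_add ρ hirr hnt hq he, sc_add ρ hirr hnt hq he, map_add]; abel, fun f => rfl⟩
  have hneg : sc ρ (-1) e = -e := by
    have h := sc_add ρ hirr hnt hq he (-1) 1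
    rw [neg_add_cancel, sc_zero, sc_one] at h
    exact eq_neg_of_add_eq_zero_left h.symm
  have hup : ∀ (a : F) f, ρ (up a) (Φ₀ f) = Φ₀ ((up a).1.mulVec f) := by
    intro a f
    rw [hΦ, hΦ, map_add, sc_mem ρ he, up_wel ρ hirr hnt hq (sc_mem ρ he _), ← sc_mul]
    have e0 : (up a).1.mulVec f 0 = f 0 + a * f 1 := by
      simp [Matrix.mulVec, dotProduct, Fin.sum_univ_two]
    have e1 : (up a).1.mulVec f 1 = f 1 := by
      simp [Matrix.mulVec, dotProduct, Fin.sum_univ_two]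
    have e2 : -sc ρ (a * -f 1) e = sc ρ (a * f 1) e := by
      rw [neg_eq_iff_add_eq_zero, ← sc_add ρ hirr hnt hq he, show a * -f 1 + a * f 1 = 0 by ring, sc_zero]
    rw [e0, e1, sc_add ρ hirr hnt hq he, ← e2]
    abel
  have hwel : ∀ f, ρ wel (Φ₀ f) = Φ₀ ((wel : SL₂).1.mulVec f) := by
    intro f
    have e0 : (wel : SL₂).1.mulVec f 0 = f 1 := by
      simp [Matrix.mulVec, dotProduct, Fin.sum_univ_two, wel_coe]
    have e1 : (wel : SL₂).1.mulVec f 1 = -f 0 := by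
      simp [Matrix.mulVec, dotProduct, Fin.sum_univ_two, wel_coe]
    rw [hΦ, hΦ, map_add, wel_wel_apply, e0, e1, neg_neg]
    have e2 : ρ (tor (-1)) (sc ρ (-f 1) e) = sc ρ (f 1) e := by
      rw [show (-1 : Fˣ) = Units.mk0 (-1 : F) (by simp) from Units.ext rfl, ← sc_ne ρ, ← sc_mul]
      congr 1
      ring
    rw [e2, add_comm]
  have hinj : Function.Injective Φ₀ := by
    rw [injective_iff_map_eq_zero]
    intro f hf
    rw [hΦ, add_eq_zero_iff_eq_neg, ← map_neg] at hf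
    have h0 := eq_zero_of_both ρ hirr hnt (sc_mem ρ he _) (neg_mem (sc_mem ρ he _)) hf
    rw [h0, eq_comm] at hf
    have h1 : sc ρ (-f 1) e = 0 := neg_eq_zero.1 (rho_injective ρ wel (hf.trans (map_zero _).symm))
    have key : ∀ b : F, sc ρ b e = 0 → b = 0 := fun b hb => by
      by_contra hb0
      exact he0 (by rw [← sc_one ρ e, ← inv_mul_cancel₀ hb0, sc_mul, hb, sc_ne ρ (inv_ne_zero hb0), map_zero])
    funext i
    fin_cases i
    · exact key _ h0
    · exact neg_eq_zero.1 (key _ h1)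
  have hY : Φ₀.range = ⊤ := by
    refine (hirr Φ₀.range (invariant_of_gen ρ hirr hnt _ ?_ ?_)).resolve_left fun hbot => he0 ?_
    · rintro a _ ⟨f, rfl⟩; exact ⟨_, (hup a f).symm⟩
    · rintro _ ⟨f, rfl⟩; exact ⟨_, (hwel f).symm⟩
    · have h : Φ₀ ![1, 0] ∈ Φ₀.range := ⟨_, rfl⟩
      rw [hbot, AddSubgroup.mem_bot, hΦ] at h
      simpa [sc_zero, sc_one] using h
  refine ⟨AddEquiv.ofBijective Φ₀ ⟨hinj, AddMonoidHom.range_eq_top.1 hY⟩, fun g f => ?_⟩
  show ρ g (Φ₀ f) = Φ₀ _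
  have hg : g ∈ Submonoid.closure (Set.range (up (k := F)) ∪ {wel}) := by
    rw [← Subgroup.closure_toSubmonoid_of_finite, eq_top_of_up_wel _
      (fun a => Subgroup.subset_closure (Or.inl ⟨a, rfl⟩)) (Subgroup.subset_closure (Or.inr rfl))]
    trivial
  induction hg using Submonoid.closure_induction generalizing f with
  | mem x hx =>
    rcases hx with ⟨a, rfl⟩ | rfl
    · exact hup a f
    · exact hwel f
  | one => rw [rho_one]; simp
  | mul x y _ _ hx hy => rw [rho_mul, hy, hx]; simp [Matrix.mulVec_mulVec]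

omit hq
omit [DecidableEq F]

/-- a small module is quadratic -/
theorem quad_of_small [Finite V] {p : ℕ} [Fact p.Prime] [CharP F p] (hV : ∀ v : V, p • v = 0)
    (h : Nat.card V ≤ Nat.card (fixU ρ) ^ 2) : Quad ρ := by
  obtain ⟨σ, hσ⟩ : ∃ σ : fixU ρ × fixU ρ → V, σ = fun z => (z.1 : V) + ρ wel (z.2 : V) := ⟨_, rfl⟩
  have hinj : Function.Injective σ := by
    rw [hσ]
    rintro ⟨⟨x, hx⟩, ⟨y, hy⟩⟩ ⟨⟨x', hx'⟩, ⟨y', hy'⟩⟩ e
    have e1 : x - x' = ρ wel (y' - y) := by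
      rw [map_sub, sub_eq_sub_iff_add_eq_add]
      exact e.trans (add_comm _ _)
    have h0 := eq_zero_of_both ρ hirr hnt (sub_mem hx hx') (sub_mem hy' hy) e1
    rw [h0, eq_comm] at e1
    have h1 := rho_injective ρ wel (e1.trans (map_zero _).symm)
    exact Prod.ext (Subtype.ext (sub_eq_zero.1 h0)) (Subtype.ext (sub_eq_zero.1 h1).symm)
  have hbij : Function.Bijective σ := hinj.bijective_of_nat_card_le (by rw [Nat.card_prod, ← pow_two]; exact h)
  -- the vectors with a good partner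
  obtain ⟨W, hW⟩ : ∃ W : AddSubgroup V, ∀ y, y ∈ W ↔ y ∈ fixU ρ ∧ ∀ a, ρ (up a) (ρ wel y) - ρ wel y ∈ fixU ρ :=
    ⟨{ carrier := {y | y ∈ fixU ρ ∧ ∀ a, ρ (up a) (ρ wel y) - ρ wel y ∈ fixU ρ}
       add_mem' := fun {x y} hx hy => ⟨add_mem hx.1 hy.1, fun a => by
         rw [map_add, map_add, add_sub_add_comm]; exact add_mem (hx.2 a) (hy.2 a)⟩
       zero_mem' := ⟨zero_mem _, fun a => by rw [map_zero, map_zero, sub_zero]; exact zero_mem _⟩
       neg_mem' := fun {x} hx => ⟨neg_mem hx.1, fun a => by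
         rw [map_neg, map_neg, neg_sub_neg, ← neg_sub]; exact neg_mem (hx.2 a)⟩ }, fun y => Iff.rfl⟩
  have htor : ∀ (u : Fˣ) y, y ∈ W → ρ (tor u) y ∈ W := by
    intro u y hy
    obtain ⟨h1, h2⟩ := (hW y).1 hy
    refine (hW _).2 ⟨tor_mem ρ h1 u, fun a => ?_⟩
    have e : ρ wel (ρ (tor u) y) = ρ (tor u⁻¹) (ρ wel y) := by rw [← rho_mul, wel_tor, rho_mul]
    rw [e, ← rho_mul, up_tor, rho_mul, ← map_sub]
    exact tor_mem ρ (h2 _) _
  have hdelta : ∀ y ∈ W, ∀ a : F, ρ (up a) (ρ wel y) - ρ wel y ∈ W := by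
    intro y hy a
    rcases eq_or_ne a 0 with rfl | ha
    · rw [CfsgLib.Qd.up_zero, rho_one, sub_self]; exact zero_mem _
    obtain ⟨h1, h2⟩ := (hW y).1 hy
    obtain ⟨d, hd⟩ : ∃ d, d = ρ (up a) (ρ wel y) - ρ wel y := ⟨_, rfl⟩
    have hdm : d ∈ fixU ρ := hd ▸ h2 a
    obtain ⟨u, hu⟩ : ∃ u : Fˣ, (u : F) = a⁻¹ := ⟨Units.mk0 a⁻¹ (inv_ne_zero ha), rfl⟩
    have hua : ((u⁻¹ : Fˣ) : F) = a := by rw [Units.val_inv_eq_inv_val, hu, inv_inv]
    have e := up_lo_up u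
    rw [hua] at e
    -- the same element on two vectors
    have hl : ρ (up a) (ρ wel y) = ρ wel y + d := by rw [hd]; abel
    have e1 : ρ (up a) (ρ (lo (-(u : F))) d) = ρ wel (ρ (tor u) d) := by
      rw [← rho_mul ρ wel, ← e, rho_mul, hdm, rho_mul]
    have e2 : ρ wel (ρ (tor u) (ρ wel y)) = ρ wel y + d + ρ (up a) (ρ (lo (-(u : F))) d) := by
      rw [← rho_mul ρ wel, ← e, rho_mul, hl, rho_mul, map_add, lo_wel_fix ρ h1, map_add, hl]
    have e3 : ρ wel (ρ (tor u) (ρ wel y)) = ρ (tor (u⁻¹ * (-1))) y := by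
      rw [← rho_mul, wel_tor, rho_mul, wel_wel_apply, ← rho_mul, ← tor_mul]
    rw [e3, e1] at e2
    have hz : (⟨ρ (tor (u⁻¹ * (-1))) y, tor_mem ρ h1 _⟩, (0 : fixU ρ)) =
        ((⟨d, hdm⟩, ⟨y + ρ (tor u) d, add_mem h1 (tor_mem ρ hdm u)⟩) : fixU ρ × fixU ρ) := by
      refine hinj ?_
      rw [hσ]
      show ρ (tor (u⁻¹ * (-1))) y + ρ wel ((0 : fixU ρ) : V) = d + ρ wel (y + ρ (tor u) d)
      rw [ZeroMemClass.coe_zero, map_zero, add_zero, e2, map_add]
      abel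
    have hd' : ρ (tor (u⁻¹ * (-1))) y = d := congrArg (fun z : fixU ρ × fixU ρ => (z.1 : V)) hz
    rw [← hd, ← hd']
    exact htor _ _ hy
  obtain ⟨X, hX⟩ : ∃ X : AddSubgroup V, ∀ v, v ∈ X ↔ ∃ x ∈ W, ∃ y ∈ W, v = x + ρ wel y :=
    ⟨W ⊔ W.map (ρ wel), fun v => by
      rw [AddSubgroup.mem_sup]
      exact ⟨fun ⟨x, hx, _, ⟨y, hy, e⟩, e'⟩ => ⟨x, hx, y, hy, e'.symm.trans (by rw [← e]; rfl)⟩,
        fun ⟨x, hx, y, hy, e⟩ => ⟨x, hx, _, ⟨y, hy, rfl⟩, e.symm⟩⟩⟩
  have hinv : ∀ g, ∀ v ∈ X, ρ g v ∈ X := by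
    refine invariant_of_gen ρ hirr hnt X ?_ ?_
    · intro a v hv
      obtain ⟨x, hx, y, hy, rfl⟩ := (hX v).1 hv
      refine (hX _).2 ⟨x + (ρ (up a) (ρ wel y) - ρ wel y), add_mem hx (hdelta y hy a), y, hy, ?_⟩
      rw [map_add, ((hW x).1 hx).1]; abel
    · intro v hv
      obtain ⟨x, hx, y, hy, rfl⟩ := (hX v).1 hv
      exact (hX _).2 ⟨ρ (tor (-1)) y, htor _ y hy, x, hx, by rw [map_add, wel_wel_apply]; abel⟩
  -- a fixed vector modulo `fixU`
  obtain ⟨y₀, hy₀, hy0⟩ : ∃ y ∈ W, y ≠ 0 := by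
    by_contra hno
    push Not at hno
    obtain ⟨g, x, hgx⟩ := id hnt
    obtain ⟨q, hq⟩ : ∃ q : Multiplicative F → (V ⧸ fixU ρ) →+ (V ⧸ fixU ρ),
        ∀ a, ∀ v : V, q a (QuotientAddGroup.mk v) = QuotientAddGroup.mk (ρ (up (Multiplicative.toAdd a)) v) :=
      ⟨fun a => QuotientAddGroup.map _ _ (ρ (up (Multiplicative.toAdd a)))
        (fun v hv => by show ρ _ v ∈ fixU ρ; rw [hv]; exact hv), fun a v => rfl⟩
    letI : SMul (Multiplicative F) (V ⧸ fixU ρ) := ⟨fun a z => q a z⟩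
    letI : MulAction (Multiplicative F) (V ⧸ fixU ρ) :=
      { one_smul := fun z => by
          show q 1 z = z
          refine QuotientAddGroup.induction_on z fun v => ?_
          rw [hq, toAdd_one, CfsgLib.Qd.up_zero, rho_one]
        mul_smul := fun a b z => by
          show q (a * b) z = q a (q b z)
          refine QuotientAddGroup.induction_on z fun v => ?_
          rw [hq, hq, hq, toAdd_mul, ← CfsgLib.Qd.up_mul, rho_mul] }
    haveI : Finite (V ⧸ fixU ρ) := Finite.of_surjective _ (QuotientAddGroup.mk'_surjective _)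
    have hP : IsPGroup p (Multiplicative F) := fun a => ⟨1, by
      rw [pow_one]
      refine Multiplicative.toAdd.injective ?_
      rw [toAdd_pow, toAdd_one, nsmul_eq_mul, CharP.cast_eq_zero, zero_mul]⟩
    have hne : fixU ρ ≠ ⊤ := fun htop => by
      refine hgx ?_
      have hall : ∀ v : V, v ∈ fixU ρ := fun v => htop ▸ AddSubgroup.mem_top v
      have hz : ∀ v : V, v = 0 := fun v => eq_zero_of_fixed ρ hirr hnt (hall v) fun c => by
        have e := lo_wel_fix ρ (hall (ρ wel⁻¹ v)) c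
        rwa [← rho_mul ρ wel, mul_inv_cancel, rho_one] at e
      rw [hz x, map_zero]
    obtain ⟨v₀, hv₀⟩ : ∃ v, v ∉ fixU ρ := by
      by_contra hh; push Not at hh
      exact hne (eq_top_iff.2 fun v _ => hh v)
    have hdvd : p ∣ Nat.card (V ⧸ fixU ρ) := by
      have ho : addOrderOf (QuotientAddGroup.mk v₀ : V ⧸ fixU ρ) = p := by
        refine addOrderOf_eq_prime ?_ fun hh => hv₀ ((QuotientAddGroup.eq_zero_iff v₀).1 hh)
        rw [← QuotientAddGroup.mk_nsmul, hV, QuotientAddGroup.mk_zero]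
      exact ho ▸ addOrderOf_dvd_natCard _
    have h0 : (0 : V ⧸ fixU ρ) ∈ MulAction.fixedPoints (Multiplicative F) (V ⧸ fixU ρ) :=
      fun a => map_zero (q a)
    obtain ⟨z, hzfix, hz0⟩ := hP.exists_fixed_point_of_prime_dvd_card_of_fixed_point _ hdvd h0
    induction z using QuotientAddGroup.induction_on with
    | H v =>
      obtain ⟨⟨x', y'⟩, hxy⟩ := hbij.2 v
      rw [hσ] at hxy
      subst hxy
      have hy'W : (y' : V) ∈ W := by
        refine (hW _).2 ⟨y'.2, fun a => ?_⟩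
        have hh : q (Multiplicative.ofAdd a) (QuotientAddGroup.mk ((x' : V) + ρ wel y')) =
            QuotientAddGroup.mk ((x' : V) + ρ wel y') := hzfix (Multiplicative.ofAdd a)
        rw [hq, toAdd_ofAdd, QuotientAddGroup.eq_iff_sub_mem, map_add, x'.2 a, add_sub_add_left_eq_sub] at hh
        exact hh
      refine hz0 ?_
      rw [eq_comm, QuotientAddGroup.eq_zero_iff]
      show (x' : V) + ρ wel y' ∈ fixU ρ
      rw [hno _ hy'W, map_zero, add_zero]
      exact x'.2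
  have hXtop : X = ⊤ := (hirr X hinv).resolve_left fun hb => hy0 (by
    have hh : y₀ + ρ wel 0 ∈ X := (hX _).2 ⟨y₀, hy₀, 0, zero_mem _, rfl⟩
    rw [hb, AddSubgroup.mem_bot, map_zero, add_zero] at hh
    exact hh)
  intro a v
  obtain ⟨x, hx, y, hy, rfl⟩ := (hX v).1 (hXtop ▸ AddSubgroup.mem_top v)
  obtain ⟨hy1, hy2⟩ := (hW y).1 hy
  rw [map_add, ((hW x).1 hx).1, add_sub_add_left_eq_sub]
  exact hy2 a

end CfsgLib.SLTwoQuad
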